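import Cfsg.Agent.Lib.Lie.RankOneClass.Classify

/-!
Owner: helper29. S3310, for the trivial intersection theorem: an involutory automorphism of a simple rank one
group centralising a two-point stabiliser and fixing both points is trivial.
-/

set_option autoImplicit false
set_option linter.style.haveILetI false
set_option linter.unusedSectionVars false

namespace CfsgLib.RankOneInter.TIAuto

open MulAction CfsgLib.Lie.RankOne CfsgLib.Lie.RankOneClass

/-- A self-inverse map on a finite type of odd size fixes something. -/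
theorem exists_fixed_of_odd {α : Type*} [Finite α] (h : Odd (Nat.card α)) (f : α → α) (hf : ∀ x, f (f x) = x) :
    ∃ x, f x = x := by
  classical
  haveI := Fintype.ofFinite α
  have hσ : (Function.Involutive.toPerm f hf) ^ 2 ^ 1 = 1 := by
    ext x
    rw [pow_one, sq, Equiv.Perm.mul_apply]
    exact hf x
  exact Equiv.Perm.exists_fixed_point_of_prime (p := 2) (n := 1) (hp := ⟨Nat.prime_two⟩)
    (σ := Function.Involutive.toPerm f hf)
    (by rw [← Nat.card_eq_fintype_card]; exact fun hd => Nat.not_even_iff_odd.2 h (even_iff_two_dvd.2 hd)) hσ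

/-- With one fixed point and an even size, it fixes another. -/
theorem exists_fixed_ne_of_even {α : Type*} [Finite α] (h : Even (Nat.card α)) (f : α → α) (hf : ∀ x, f (f x) = x)
    {a : α} (ha : f a = a) : ∃ x, f x = x ∧ x ≠ a := by
  classical
  haveI := Fintype.ofFinite α
  have hσ : (Function.Involutive.toPerm f hf) ^ 2 ^ 1 = 1 := by
    ext x
    rw [pow_one, sq, Equiv.Perm.mul_apply]
    exact hf x
  exact Equiv.Perm.exists_fixed_point_of_prime' (p := 2) (n := 1) (hp := ⟨Nat.prime_two⟩)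
    (σ := Function.Involutive.toPerm f hf) (by rw [← Nat.card_eq_fintype_card]; exact h.two_dvd) hσ ha

theorem not_coprime_case {q : ℕ} (hq : Even q) (hq2 : 2 ≤ q) (h : q + 1 ∣ q * q * (q - 1) * (q * q + 1)) : False := by
  obtain ⟨k, rfl⟩ : ∃ k, q = k + 1 := ⟨q - 1, by omega⟩
  have hodd : Odd (k + 1 + 1) := hq.add_one
  have h1 : Nat.Coprime (k + 1 + 1) (k + 1) := by simp
  have h2 : Nat.Coprime (k + 1 + 1) k := by
    rw [show k + 1 + 1 = k + 2 from rfl, Nat.coprime_self_add_left]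
    rw [Nat.odd_iff] at hodd
    exact Nat.coprime_two_left.2 (Nat.odd_iff.2 (by omega))
  have h3 : Nat.Coprime (k + 1 + 1) ((k + 1) * (k + 1) + 1) := by
    rw [show (k + 1) * (k + 1) + 1 = 2 + (k + 1 + 1) * k by ring, Nat.coprime_add_mul_left_right]
    exact Nat.coprime_two_right.2 hodd
  rw [Nat.add_sub_cancel] at h
  have := ((h1.mul_right h1).mul_right h2).mul_right h3
  rw [Nat.Coprime, Nat.gcd_eq_left h] at this
  omega

variable {G Ω : Type*} [Group G] [Finite G] [MulAction G Ω] [FaithfulSMul G Ω] {a : Ω} {t : G}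
  {Q : Subgroup G}

local notation "𝔇" => ((stabilizer G a ⊓ stabilizer G (t • a)) : Subgroup G)
local notation "𝔎" => Cfsg.invertedBy (stabilizer G a ⊓ stabilizer G (t • a)) t
local notation "𝔍" => Cfsg.involutionsIn (stabilizer G a : Set G)

/-- What the classification gives. -/
theorem shape_cases [IsSimpleGroup G] (hS : Cfsg.IsRankOneSetup G Ω a t Q)
    (h2 : ∃ x y : G, x ≠ 1 ∧ y ≠ 1 ∧ x ≠ y ∧ x * x = 1 ∧ y * y = 1 ∧ x * y = y * x) :
    Nat.card Q = qq G a ∨ (Vg a t = ⊥ ∧ Nat.card Q = qq G a ^ 2) ∨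
      (Nat.card Q = qq G a ^ 3 ∧ (∃ w ∈ Wg a t, w ≠ 1) ∧
        ∀ w ∈ Wg a t, w ≠ 1 → ∀ y ∈ Q, w * y = y * w → y = 1 ∨ y ∈ 𝔍) := by
  classical
  have hN : NoExt t Q := fun L hL _ ht =>
    hL.eq_bot_or_eq_top.resolve_left fun h => hS.ne_one (Subgroup.mem_bot.1 (h ▸ ht))
  have hCS := centShape_of_setup hS h2
  by_cases hV : Vg a t = ⊥
  · exact (shape_of_Vg_bot hS h2 hV).imp_right fun h => Or.inl ⟨hV, h.2.1⟩
  haveI : Fact (Nat.Prime 2) := ⟨Nat.prime_two⟩
  obtain ⟨n, hn, hqn⟩ := exists_pow_two hS h2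
  haveI : Fintype (GaloisField 2 n) := Fintype.ofFinite _
  obtain ⟨C⟩ := exists_coord hS h2 (GaloisField 2 n) (by rw [GaloisField.card 2 n (by omega), hqn])
  haveI := Fintype.ofFinite G
  haveI : Fintype ↥Q := Fintype.ofFinite _
  obtain ⟨P⟩ := exists_qdec hS h2
  haveI := Fintype.ofFinite P.S
  haveI := Fintype.ofFinite P.O
  obtain ⟨Sp⟩ := exists_split_chars C hS h2 hN hV
  obtain ⟨Rl⟩ := exists_rel (C := C) hS h2 (P := P)
  by_cases hab : ∀ x ∈ P.S, ∀ y ∈ P.S, x * y = y * x
  · exact Or.inl (card_eq_of_abelian hS h2 hCS hab hN Sp hV Rl)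
  obtain ⟨-, -, hS3⟩ := (P.S_cases hS h2).resolve_left hab
  have hO := card_O_eq_one hS h2 Sp Rl hN hCS hS3
  have hcard : Nat.card Q = qq G a ^ 3 := by
    rcases hS3 with h | h
    · exact absurd h (card_S_ne_sq hS h2 Sp hN hCS hab)
    · rw [← P.S_eq hO, h]
  exact Or.inr (Or.inr ⟨hcard, exists_Wg_of_cube C hS h2 hN hCS hcard hV,
    Wg_cent_of_cube C hS h2 hN hCS hcard⟩)

variable (hS : Cfsg.IsRankOneSetup G Ω a t Q)
include hS

/-- An element of the point stabiliser of two-power order lies in `Q`. -/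
theorem mem_Q_of_two_power {x : G} (hx : x ∈ stabilizer G a) {n : ℕ} (hn : x ^ 2 ^ n = 1) : x ∈ Q := by
  obtain ⟨y, hy, d, hd, rfl⟩ := stab_eq_mul hS hx
  have key : ∀ m : ℕ, ∃ q ∈ Q, (y * d) ^ m = q * d ^ m := by
    intro m
    induction m with
    | zero => exact ⟨1, one_mem _, by simp⟩
    | succ m ih =>
      obtain ⟨q, hq, he⟩ := ih
      exact ⟨q * (d ^ m * y * (d ^ m)⁻¹), mul_mem hq (Q_conj hS (pow_mem hd m) hy), by
        rw [pow_succ, he, pow_succ]; group⟩
  obtain ⟨q, hq, he⟩ := key (2 ^ n)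
  rw [hn] at he
  have h1 : d ^ 2 ^ n ∈ Q := by
    rw [eq_inv_of_mul_eq_one_right he.symm]; exact inv_mem hq
  have h2 : d ^ 2 ^ n = 1 := eq_one_of_fix_ta hS h1 (mem_D.1 (pow_mem hd (2 ^ n))).2
  have h3 : orderOf d = 1 := Nat.eq_one_of_dvd_coprimes
    ((Nat.coprime_two_left.2 (D_odd hS hd)).pow_left n) (orderOf_dvd_of_pow_eq_one h2) dvd_rfl
  rw [orderOf_eq_one_iff.1 h3, mul_one]
  exact hy

theorem odd_card_J (h2 : ∃ x y : G, x ≠ 1 ∧ y ≠ 1 ∧ x ≠ y ∧ x * x = 1 ∧ y * y = 1 ∧ x * y = y * x) :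
    Odd (Nat.card 𝔍) := by
  obtain ⟨k, hk⟩ := even_qq hS h2
  rw [qq] at hk
  exact ⟨k - 1, by omega⟩

/-- **An involutory automorphism centralising the two-point stabiliser is trivial.** -/
theorem auto_eq_one [IsSimpleGroup G]
    (h2 : ∃ x y : G, x ≠ 1 ∧ y ≠ 1 ∧ x ≠ y ∧ x * x = 1 ∧ y * y = 1 ∧ x * y = y * x)
    (φ : G →* G) (hφ : ∀ x, φ (φ x) = x) (δ : Ω → Ω) (hc : ∀ (g : G) (c : Ω), δ (g • c) = φ g • δ c)
    (ha : δ a = a) (hb : δ (t • a) = t • a) (hD : ∀ d ∈ 𝔇, φ d = d) : ∀ g : G, φ g = g := by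
  classical
  haveI : Fact (Nat.Prime 2) := ⟨Nat.prime_two⟩
  obtain ⟨m, hm, hqm⟩ := exists_pow_two hS h2
  have hcases := shape_cases hS h2
  obtain ⟨k, hk⟩ : ∃ k, Nat.card Q = 2 ^ k := by
    rcases hcases with h | ⟨-, h⟩ | ⟨h, -⟩
    · exact ⟨m, by rw [h, hqm]⟩
    · exact ⟨m * 2, by rw [h, hqm, ← pow_mul]⟩
    · exact ⟨m * 3, by rw [h, hqm, ← pow_mul]⟩
  have hinj : Function.Injective φ := fun x y h => by rw [← hφ x, h, hφ]
  have hstab : ∀ {g : G}, g ∈ stabilizer G a → φ g ∈ stabilizer G a := by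
    intro g hg
    show φ g • a = a
    conv_lhs => rw [← ha]
    rw [← hc, show g • a = a from hg, ha]
  have hφQ : ∀ {x : G}, x ∈ Q → φ x ∈ Q := fun {x} hx => by
    refine mem_Q_of_two_power hS (hstab (hS.le hx)) (n := k) ?_
    rw [← map_pow, ← hk, show x ^ Nat.card Q = 1 from congrArg Subtype.val (pow_card_eq_one' (x := (⟨x, hx⟩ : Q))),
      map_one]
  -- the involutions at `a` are fixed
  have hJ : ∀ {x : G}, x ∈ 𝔍 → φ x ∈ 𝔍 := fun {x} hx =>
    ⟨hstab hx.1, fun e => hx.2.1 (hinj (by rw [e, map_one])), by rw [← map_mul, hx.2.2, map_one]⟩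
  have hJfix : ∀ {x : G}, x ∈ 𝔍 → φ x = x := by
    obtain ⟨⟨s, hs⟩, hse⟩ := exists_fixed_of_odd (α := 𝔍) (odd_card_J hS h2) (fun x => ⟨φ x, hJ x.2⟩)
      (fun x => Subtype.ext (hφ x))
    have hse' : φ s = s := congrArg Subtype.val hse
    intro x hx
    obtain ⟨k, ⟨hkK, rfl⟩, -⟩ := exists_unique_K hS hs hx
    rw [map_mul, map_mul, map_inv, hse', hD k hkK.1]
  -- the fixed elements of `Q`
  let R : Subgroup Q :=
    { carrier := {x | φ (x : G) = x}
      one_mem' := by simp
      mul_mem' := fun {x y} hx hy => by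
        show φ ((x : G) * y) = (x : G) * y
        rw [map_mul, show φ (x : G) = x from hx, show φ (y : G) = y from hy]
      inv_mem' := fun {x} hx => by
        show φ ((x : G)⁻¹) = (x : G)⁻¹
        rw [map_inv, show φ (x : G) = x from hx] }
  by_cases hall : ∀ x ∈ Q, φ x = x
  · have hδ : ∀ c : Ω, δ c = c := fun c => by
      by_cases h : c = a
      · rw [h, ha]
      · obtain ⟨x, hx, rfl⟩ := exists_smul_eq_ta hS h
        rw [hc, hb, hall x hx]
    intro g
    refine FaithfulSMul.eq_of_smul_eq_smul fun c : Ω => ?_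
    have := hc g c
    rw [hδ, hδ] at this
    exact this.symm
  exfalso
  push Not at hall
  obtain ⟨x₀, hx₀, hx₀'⟩ := hall
  have hRne : R ≠ ⊤ := fun h => hx₀' (show (⟨x₀, hx₀⟩ : Q) ∈ R from h ▸ Subgroup.mem_top _)
  have hp : IsPGroup 2 Q := IsPGroup.of_card hk
  obtain ⟨s, hs⟩ := (hp.to_subgroup R).exists_card_eq
  -- an element moved by a fixed involution
  obtain ⟨y, hy, z, hz, hyz⟩ : ∃ y ∈ Q, ∃ z ∈ 𝔍, φ y = y * z := by
    let σ : Q ⧸ R → Q ⧸ R := Quotient.map' (fun x : Q => ⟨φ x, hφQ x.2⟩) fun x y h => by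
      rw [QuotientGroup.leftRel_apply] at h ⊢
      show φ ((φ (x : G))⁻¹ * φ (y : G)) = (φ (x : G))⁻¹ * φ (y : G)
      have h' : φ ((x : G)⁻¹ * y) = (x : G)⁻¹ * y := h
      rw [← map_inv, ← map_mul, h', h']
    have heven : Even (Nat.card (Q ⧸ R)) := by
      obtain ⟨j, hj⟩ := hp.index R
      rw [← Subgroup.index_eq_card, hj]
      rcases j with _ | j
      · exact absurd (Subgroup.index_eq_one.1 (by rw [hj, pow_zero])) hRne
      · exact Nat.even_pow.2 ⟨even_two, j.succ_ne_zero⟩
    obtain ⟨c, hc1, hc2⟩ := exists_fixed_ne_of_even heven σ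
      (fun c => Quotient.inductionOn' c fun x => by
        show Quotient.mk'' _ = Quotient.mk'' x
        congr 1
        exact Subtype.ext (hφ _))
      (a := QuotientGroup.mk 1) (by
        show Quotient.mk'' _ = Quotient.mk'' _
        congr 1
        exact Subtype.ext (map_one φ))
    obtain ⟨y, rfl⟩ := QuotientGroup.mk_surjective c
    have hne : y ∉ R := fun h => hc2 (QuotientGroup.eq.2 (by simpa using inv_mem h))
    have h1 : (⟨φ y, hφQ y.2⟩ : Q)⁻¹ * y ∈ R := QuotientGroup.eq.1 hc1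
    have h1' : φ ((φ (y : G))⁻¹ * y) = (φ (y : G))⁻¹ * y := h1
    rw [map_mul, map_inv, hφ] at h1'
    refine ⟨y, y.2, (y : G)⁻¹ * φ y, ⟨mul_mem (inv_mem (hS.le y.2)) (hS.le (hφQ y.2)), fun e => hne ?_, ?_⟩, by
      rw [mul_inv_cancel_left]⟩
    · show φ (y : G) = y
      exact (inv_mul_eq_one.1 e).symm
    · nth_rw 2 [h1']
      group
  have hzQ : z ∈ Q := J_mem_Q hS hz
  have hzc : ∀ x ∈ Q, z * x = x * z := fun x hx => J_central hS h2 hz hx
  rcases hcases with hcard | ⟨hV, hcard⟩ | ⟨hcard, ⟨w, hw, hw1⟩, hC⟩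
  · -- every element of `Q` is an involution
    have hle : CfsgLib.OddTransitive.RankOne.involutionGroup hS h2 ≤ Q := fun x hx =>
      ((CfsgLib.OddTransitive.RankOne.mem_involutionGroup hS h2).1 hx).elim (fun h => h ▸ one_mem Q)
        (fun h => J_mem_Q hS h)
    have he := Subgroup.eq_of_le_of_card_ge hle (by rw [hcard, card_involutionGroup hS h2])
    refine hx₀' ?_
    rcases (CfsgLib.OddTransitive.RankOne.mem_involutionGroup hS h2).1 (he.ge hx₀) with rfl | h
    · exact map_one φ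
    · exact hJfix h
  · -- the Suzuki shape
    have hfree : ∀ d ∈ 𝔇, ∀ x ∈ Q, x ≠ 1 → d * x = x * d → d = 1 := fun d hd x hx hx1 hdx => by
      obtain ⟨e, -, he⟩ := conj_mem_Vg hS hd hx hx1 hdx
      rw [hV, Subgroup.mem_bot] at he
      exact conj_eq_one_iff.1 he
    have hDcard : Nat.card 𝔇 = 2 ^ m - 1 := by
      rw [card_D hS, hV, Subgroup.card_bot, one_mul, ← hqm]
      rfl
    -- `D` acts freely on the fixed elements
    let X := {x : G // x ∈ Q ∧ φ x = x ∧ x ≠ 1}
    letI : MulAction 𝔇 X :=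
      { smul := fun d x => ⟨(d : G) * x.1 * (d : G)⁻¹, Q_conj hS d.2 x.2.1, by
          rw [map_mul, map_mul, map_inv, hD d d.2, x.2.2.1], fun e => x.2.2.2 (conj_eq_one_iff.1 e)⟩
        one_smul := fun x => Subtype.ext (by
          show ((1 : 𝔇) : G) * x.1 * ((1 : 𝔇) : G)⁻¹ = x.1
          simp)
        mul_smul := fun d e x => Subtype.ext (by
          show ((d * e : 𝔇) : G) * x.1 * ((d * e : 𝔇) : G)⁻¹ =
            (d : G) * ((e : G) * x.1 * (e : G)⁻¹) * (d : G)⁻¹
          simp [mul_assoc]) }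
    haveI : Finite X := Subtype.finite
    have hstabX : ∀ x : X, stabilizer 𝔇 x = ⊥ := fun x => (Subgroup.eq_bot_iff_forall _).2 fun d hd => by
      have h1 : (d : G) * x.1 * (d : G)⁻¹ = x.1 := congrArg Subtype.val (mem_stabilizer_iff.1 hd)
      exact Subtype.ext (hfree d d.2 x.1 x.2.1 x.2.2.2 (mul_inv_eq_iff_eq_mul.1 h1))
    have hdvd : 2 ^ m - 1 ∣ 2 ^ s - 1 := by
      have hX : Nat.card X = 2 ^ s - 1 := by
        have e1 : Nat.card X = Nat.card {x : R // x ≠ 1} := by
          refine Nat.card_congr ⟨fun x => ⟨⟨⟨x.1, x.2.1⟩, x.2.2.1⟩, fun e => x.2.2.2 ?_⟩,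
            fun x => ⟨x.1.1.1, x.1.1.2, x.1.2, fun e => x.2 ?_⟩, fun x => rfl, fun x => rfl⟩
          · exact congrArg (fun r : R => ((r : Q) : G)) e
          · exact Subtype.ext (Subtype.ext e)
        haveI := Fintype.ofFinite R
        rw [e1, Nat.card_eq_fintype_card, Fintype.card_subtype_compl, Fintype.card_subtype_eq,
          ← Nat.card_eq_fintype_card, hs]
      haveI := Fintype.ofFinite (Quotient (orbitRel 𝔇 X))
      rw [← hX, ← hDcard, Nat.card_congr (selfEquivSigmaOrbitsQuotientStabilizer 𝔇 X), Nat.card_sigma]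
      refine Finset.dvd_sum fun c _ => ?_
      rw [hstabX, ← Subgroup.index_eq_card, Subgroup.index_bot]
    have hms : m ∣ s := by
      have h := Nat.pow_sub_one_gcd_pow_sub_one 2 m s
      rw [Nat.gcd_eq_left hdvd] at h
      have h' : 2 ^ m = 2 ^ Nat.gcd m s := by
        have := Nat.one_le_two_pow (n := m)
        have := Nat.one_le_two_pow (n := Nat.gcd m s)
        omega
      rw [Nat.pow_right_injective le_rfl h']
      exact Nat.gcd_dvd_right m s
    have hsk : 2 ^ s < 2 ^ (m * 2) := by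
      rw [pow_mul, ← hqm, ← hcard, ← hs]
      refine lt_of_le_of_ne (Subgroup.card_le_card_group R) fun h => hRne (Subgroup.eq_top_of_card_eq R h)
    have hs0 : s ≠ 0 := fun h => hz.2.1 (by
      rw [h, pow_zero] at hs
      have h1 : (⟨z, hzQ⟩ : Q) ∈ R := hJfix hz
      rw [Subgroup.card_eq_one.1 hs, Subgroup.mem_bot] at h1
      exact congrArg Subtype.val h1)
    have hsm : s = m := by
      have := (Nat.pow_lt_pow_iff_right one_lt_two).1 hsk
      obtain ⟨j, rfl⟩ := hms
      rcases j with _ | _ | j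
      · simp at hs0
      · simp
      · nlinarith
    -- the fixed points form an orbit of the fixed elements
    have hK : Nat.card 𝔎 = Nat.card 𝔍 := card_K hS
    obtain ⟨⟨u, hu⟩, hue⟩ := exists_fixed_of_odd (α := {u : G // u * u = 1 ∧ u • a = t • a})
      (by
        have e : Nat.card {u : G // u * u = 1 ∧ u • a = t • a} = Nat.card 𝔎 :=
          Nat.card_congr ⟨fun u => ⟨t * u.1, mem_K_of_swap hS u.2.1 u.2.2⟩,
            fun k => ⟨t * k.1, (K_swap hS k.2).2.1, (K_swap hS k.2).2.2.1⟩,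
            fun u => Subtype.ext (t_mul_t_mul hS _), fun k => Subtype.ext (t_mul_t_mul hS _)⟩
        rw [e, hK]
        exact odd_card_J hS h2)
      (fun u => ⟨φ u.1, by rw [← map_mul, u.2.1, map_one], by
        have h := hc u.1 a
        rw [u.2.2, hb, ha] at h
        exact h.symm⟩)
      (fun u => Subtype.ext (hφ u.1))
    have hue' : φ u = u := congrArg Subtype.val hue
    let C : Subgroup G :=
      { carrier := {g | φ g = g}
        one_mem' := map_one φ
        mul_mem' := fun {x y} hx hy => by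
          show φ (x * y) = x * y
          rw [map_mul, show φ x = x from hx, show φ y = y from hy]
        inv_mem' := fun {x} hx => by
          show φ x⁻¹ = x⁻¹
          rw [map_inv, show φ x = x from hx] }
    have horb : Nat.card (orbit C a) = Nat.card R + 1 := by
      let f : Option R → orbit C a := fun o => o.elim ⟨a, mem_orbit_self a⟩
        fun x => ⟨(x : G) • (t • a), ⟨⟨(x : G) * u, by
          show φ ((x : G) * u) = (x : G) * u
          rw [map_mul, hue', show φ (x : G) = x from x.2]⟩, by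
          show ((x : G) * u) • a = (x : G) • (t • a)
          rw [mul_smul, hu.2]⟩⟩
      have hf : Function.Bijective f := by
        refine ⟨?_, ?_⟩
        · rintro (_ | x) (_ | y) h
          · rfl
          · exact absurd (congrArg Subtype.val h).symm fun e => t_smul_ne hS
              (smul_left_cancel (y : G) (e.trans (Q_fix hS (y : Q).2).symm))
          · exact absurd (congrArg Subtype.val h) fun e => t_smul_ne hS
              (smul_left_cancel (x : G) (e.trans (Q_fix hS (x : Q).2).symm))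
          · have e : (x : G) • (t • a) = (y : G) • (t • a) := congrArg Subtype.val h
            have := eq_one_of_fix_ta hS (mul_mem (inv_mem (y : Q).2) (x : Q).2) (by
              rw [mul_smul, e, inv_smul_smul])
            exact congrArg some (Subtype.ext (Subtype.ext (inv_mul_eq_one.1 this).symm))
        · rintro ⟨c, ⟨g, hg⟩, rfl⟩
          by_cases h : g • a = a
          · exact ⟨none, Subtype.ext h.symm⟩
          obtain ⟨x, hx, he⟩ := exists_smul_eq_ta hS h
          have hxR : φ x = x := by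
            have h1 : δ (g • a) = g • a := by rw [hc, ha, show φ g = g from hg]
            rw [← he, hc, hb] at h1
            have := eq_one_of_fix_ta hS (mul_mem (inv_mem hx) (hφQ hx)) (by rw [mul_smul, h1, inv_smul_smul])
            exact (inv_mul_eq_one.1 this).symm
          exact ⟨some ⟨⟨x, hx⟩, hxR⟩, Subtype.ext he⟩
      rw [← Nat.card_eq_of_bijective f hf, Finite.card_option]
    have hdvd2 : Nat.card R + 1 ∣ Nat.card G := by
      rw [← horb, ← Nat.card_congr (orbitEquivQuotientStabilizer C a).symm, ← Subgroup.index_eq_card]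
      exact (Subgroup.index_dvd_card _).trans (Subgroup.card_subgroup_dvd_card C)
    rw [hs, hsm, ← hqm, card_group hS, hDcard, hcard, pow_two, ← hqm] at hdvd2
    exact not_coprime_case (even_qq hS h2) (by have := four_le_qq hS h2; omega) hdvd2
  · -- the unitary shape
    obtain ⟨r, hr, hrw⟩ := Nat.exists_prime_and_dvd (n := orderOf w) fun h => hw1 (orderOf_eq_one_iff.1 h)
    haveI := Fact.mk hr
    obtain ⟨e, he⟩ : ∃ e, orderOf w = r * e := id hrw
    set w' := w ^ e with hw'
    have hw'r : w' ^ r = 1 := by rw [hw', ← pow_mul, mul_comm, ← he, pow_orderOf_eq_one]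
    have hw'1 : w' ≠ 1 := fun h => by
      have hpos : 0 < orderOf w := orderOf_pos w
      have h2 := Nat.le_of_dvd (Nat.pos_of_ne_zero fun h => by rw [h, mul_zero] at he; omega)
        (orderOf_dvd_of_pow_eq_one h)
      have := hr.two_le
      nlinarith
    have hw'W : w' ∈ Wg a t := pow_mem hw e
    obtain ⟨hw'D, hw'c⟩ := mem_Wg.1 hw'W
    have hr2 : r ≠ 2 := by
      rintro rfl
      exact Nat.not_even_iff_odd.2 (D_odd hS (mem_Wg.1 hw).1) (even_iff_two_dvd.2 hrw)
    let X := {x : Q // φ (x : G) = (x : G) * z}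
    have hX : Nat.card X = 2 ^ s := by
      rw [← hs]
      refine Nat.card_congr ⟨fun x => ⟨⟨y⁻¹ * (x.1 : G), mul_mem (inv_mem hy) x.1.2⟩, ?_⟩,
        fun x => ⟨⟨y * ((x : Q) : G), mul_mem hy (x : Q).2⟩, ?_⟩, fun x => ?_, fun x => ?_⟩
      · show φ (y⁻¹ * (x.1 : G)) = y⁻¹ * (x.1 : G)
        rw [map_mul, map_inv, hyz, x.2, ← hzc y hy, ← hzc x.1 x.1.2]
        group
      · show φ (y * ((x : Q) : G)) = y * ((x : Q) : G) * z
        rw [map_mul, hyz, show φ ((x : Q) : G) = ((x : Q) : G) from x.2, mul_assoc, hzc _ (x : Q).2,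
          mul_assoc]
      · exact Subtype.ext (Subtype.ext (mul_inv_cancel_left _ _))
      · exact Subtype.ext (Subtype.ext (inv_mul_cancel_left _ _))
    let cw : X → X := fun x => ⟨⟨w' * (x.1 : G) * w'⁻¹, Q_conj hS hw'D x.1.2⟩, by
      show φ (w' * (x.1 : G) * w'⁻¹) = w' * (x.1 : G) * w'⁻¹ * z
      rw [map_mul, map_mul, map_inv, hD w' hw'D, x.2, mul_assoc w', mul_assoc w' (x.1 : G) w'⁻¹,
        mul_assoc w', mul_assoc (x.1 : G) z, mul_assoc (x.1 : G) w'⁻¹]
      have h1 : z * w'⁻¹ = w'⁻¹ * z := by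
        rw [eq_inv_mul_iff_mul_eq, ← mul_assoc, hw'c z hz, mul_inv_cancel_right]
      rw [h1]⟩
    have hiter : ∀ (n : ℕ) (x : X), (((cw^[n]) x).1 : G) = w' ^ n * (x.1 : G) * (w' ^ n)⁻¹ := by
      intro n x
      induction n with
      | zero => simp
      | succ n ih =>
        rw [Function.iterate_succ_apply']
        show w' * ((((cw^[n]) x)).1 : G) * w'⁻¹ = _
        rw [ih, pow_succ']
        group
    have hbij : Function.Bijective cw := by
      refine Function.Injective.bijective_of_finite fun x x' h => ?_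
      have := congrArg (fun x : X => ((x.1 : Q) : G)) h
      exact Subtype.ext (Subtype.ext (mul_left_cancel (mul_right_cancel this)))
    haveI := Fintype.ofFinite X
    obtain ⟨⟨⟨x, hx⟩, hxz⟩, hfix⟩ := Equiv.Perm.exists_fixed_point_of_prime (p := r) (n := 1)
      (σ := Equiv.ofBijective cw hbij)
      (by
        rw [← Nat.card_eq_fintype_card, hX]
        exact fun h => hr2 ((Nat.prime_dvd_prime_iff_eq hr Nat.prime_two).1 (hr.dvd_of_dvd_pow h)))
      (by
        refine Equiv.ext fun x => Subtype.ext (Subtype.ext ?_)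
        rw [pow_one, ← Equiv.Perm.iterate_eq_pow]
        exact (hiter r x).trans (by simp [hw'r]))
    have hcomm : w' * x = x * w' :=
      mul_inv_eq_iff_eq_mul.1 (congrArg (fun x : X => ((x.1 : Q) : G)) hfix)
    refine hz.2.1 ?_
    rcases hC w' hw'W hw'1 x hx hcomm with rfl | h
    · simpa using hxz.symm
    · exact mul_eq_left.1 ((show φ x = x * z from hxz).symm.trans (hJfix h))

end CfsgLib.RankOneInter.TIAuto
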