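import Cfsg.Agent.Lib.Signalizer.Basic
import Cfsg.Agent.Lib.ZStar.Main
import Cfsg.Agent.Lib.TwoFusion.DihedralProduct.ModCore
import Cfsg.Prelude.Def_CaseTheorems

/-!
Owner: helper5. Groups in which two distinct Sylow 2-subgroups share at most one commuting pair of involutions (S3310):
first properties.

* `SmallMeet`: two commuting involutions lie in one Sylow 2-subgroup only; `smallMeet_of_prank`,
  `SmallMeet.subgroup`.
* `SmallMeet.quotient`: it passes to quotients by odd normal subgroups.
* `SmallMeet.mem_of_normalizes`, `SmallMeet.inf_le_sylow`, `SmallMeet.exists_conj_normalizer`.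
* `SmallMeet.commute_odd`: an elementary group of order eight centralises the odd groups it normalises,
  and so does every Sylow 2-subgroup containing it.
-/

set_option autoImplicit false
set_option linter.style.haveILetI false
set_option linter.unusedSectionVars false

namespace CfsgLib.RankOneInter

open Subgroup
open CfsgLib.Signalizer (involution_sq involution_inv orderOf_eq_two_of involution_ne_one)

/-- Two commuting involutions lie in only one Sylow 2-subgroup. -/
def SmallMeet (G : Type*) [Group G] : Prop :=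
  ∀ (S T : Sylow 2 G) (x y : G), orderOf x = 2 → orderOf y = 2 → x ≠ y → x * y = y * x →
    x ∈ (S : Subgroup G) → y ∈ (S : Subgroup G) → x ∈ (T : Subgroup G) → y ∈ (T : Subgroup G) → S = T

variable {G : Type*} [Group G] [Finite G]

/-- The hypothesis of S3310. -/
theorem smallMeet_of_prank
    (h : ∀ S T : Sylow 2 G, S ≠ T → Cfsg.PRankLE 2 1 ↥((S : Subgroup G) ⊓ (T : Subgroup G))) : SmallMeet G := by
  intro S T x y hx hy hne hc hxS hyS hxT hyT
  by_contra hST
  set D := (S : Subgroup G) ⊓ (T : Subgroup G) with hD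
  let a : D := ⟨x, hxS, hxT⟩
  let b : D := ⟨y, hyS, hyT⟩
  have hab : Commute a b := Subtype.ext hc
  have ha : orderOf a = 2 := by rw [← Subgroup.orderOf_coe]; exact hx
  have hb : orderOf b = 2 := by rw [← Subgroup.orderOf_coe]; exact hy
  have hne' : a ≠ b := fun e => hne (congrArg Subtype.val e)
  have hcl : ∀ u ∈ closure ({a, b} : Set D), u = 1 ∨ u = a ∨ u = b ∨ u = a * b := fun u hu =>
    CfsgLib.TwoFusion.DihedralProduct.mem_closure_pair_cases (involution_sq ha) (involution_sq hb) hab hu
  have h2 := h S T hST (closure ({a, b} : Set D)) (Subgroup.isMulCommutative_closure (by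
      rintro u (rfl | rfl) v (rfl | rfl)
      exacts [rfl, hab.eq, hab.eq.symm, rfl])) (fun u hu => by
    rcases hcl u hu with rfl | rfl | rfl | rfl
    · exact one_pow 2
    · rw [pow_two]; exact involution_sq ha
    · rw [pow_two]; exact involution_sq hb
    · rw [hab.mul_pow, pow_two, pow_two, involution_sq ha, involution_sq hb, one_mul])
  rw [CfsgLib.TwoFusion.DihedralProduct.card_closure_pair ha hb hab hne'] at h2
  omega

/-- A four group in `K`. -/
def Four (K : Subgroup G) : Prop :=
  ∃ x ∈ K, ∃ y ∈ K, orderOf x = 2 ∧ orderOf y = 2 ∧ x ≠ y ∧ x * y = y * x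

namespace SmallMeet

variable (hG : SmallMeet G)
include hG

theorem eq_of_four {K : Subgroup G} (hK : Four K) {S T : Sylow 2 G} (hS : K ≤ (S : Subgroup G))
    (hT : K ≤ (T : Subgroup G)) : S = T := by
  obtain ⟨x, hx, y, hy, hx2, hy2, hne, hc⟩ := hK
  exact hG S T x y hx2 hy2 hne hc (hS hx) (hS hy) (hT hx) (hT hy)

/-- The property passes to subgroups. -/
theorem subgroup (H : Subgroup G) : SmallMeet H := by
  intro S T x y hx hy hne hc hxS hyS hxT hyT
  obtain ⟨S', hS'⟩ := (S.isPGroup'.map H.subtype).exists_le_sylow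
  obtain ⟨T', hT'⟩ := (T.isPGroup'.map H.subtype).exists_le_sylow
  have e : S' = T' := hG S' T' x y (by rw [Subgroup.orderOf_coe, hx]) (by rw [Subgroup.orderOf_coe, hy])
    (fun e => hne (Subtype.ext e)) (congrArg Subtype.val hc) (hS' ⟨x, hxS, rfl⟩) (hS' ⟨y, hyS, rfl⟩)
    (hT' ⟨x, hxT, rfl⟩) (hT' ⟨y, hyT, rfl⟩)
  haveI := Fact.mk Nat.prime_two
  have hp : IsPGroup 2 ((S' : Subgroup G).subgroupOf H) :=
    S'.isPGroup'.comap_of_injective H.subtype H.subtype_injective
  have h1 := S.is_maximal' hp fun z hz => mem_subgroupOf.2 (hS' ⟨z, hz, rfl⟩)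
  have h2 := T.is_maximal' hp fun z hz => mem_subgroupOf.2 (e ▸ hT' ⟨z, hz, rfl⟩)
  exact Sylow.ext (h1.symm.trans h2)

/-- The property passes to quotients by normal subgroups of odd order. -/
theorem quotient (N : Subgroup G) [N.Normal] (hN : Odd (Nat.card N)) : SmallMeet (G ⧸ N) := by
  haveI := Fact.mk Nat.prime_two
  intro S' T' x' y' hx hy hne hc hxS hyS hxT hyT
  set π := QuotientGroup.mk' N with hπ
  have hsurj : Function.Surjective π := QuotientGroup.mk'_surjective N
  obtain ⟨S, rfl⟩ := Sylow.mapSurjective_surjective hsurj 2 S'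
  obtain ⟨T, rfl⟩ := Sylow.mapSurjective_surjective hsurj 2 T'
  rw [Sylow.coe_mapSurjective] at hxS hyS hxT hyT
  obtain ⟨x, hx', rfl⟩ := hxS
  obtain ⟨y, hy', rfl⟩ := hyS
  have hone : ∀ w ∈ (S : Subgroup G), π w = 1 → w = 1 := fun w hw h1 => by
    obtain ⟨k, hk⟩ := S.isPGroup' ⟨w, hw⟩
    have hd : orderOf w ∣ 2 ^ k := orderOf_dvd_of_pow_eq_one (congrArg Subtype.val hk)
    exact orderOf_eq_one_iff.1 (Nat.eq_one_of_dvd_coprimes ((Nat.coprime_two_left.2 hN).pow_left k) hd
      (Subgroup.orderOf_dvd_natCard N ((QuotientGroup.eq_one_iff w).1 h1)))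
  have hx2 : orderOf x = 2 := by
    refine orderOf_eq_prime (hone _ (pow_mem hx' 2) (by rw [map_pow, ← hx, pow_orderOf_eq_one])) fun e => ?_
    rw [e, map_one, orderOf_one] at hx; omega
  have hy2 : orderOf y = 2 := by
    refine orderOf_eq_prime (hone _ (pow_mem hy' 2) (by rw [map_pow, ← hy, pow_orderOf_eq_one])) fun e => ?_
    rw [e, map_one, orderOf_one] at hy; omega
  have hxy : x * y = y * x := by
    refine mul_inv_eq_one.1 (hone _ (mul_mem (mul_mem hx' hy') (inv_mem (mul_mem hy' hx'))) ?_)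
    rw [map_mul, map_inv, map_mul, map_mul, hc, mul_inv_cancel]
  set V := closure ({x, y} : Set G) with hV
  have hVS : V ≤ (S : Subgroup G) := (closure_le _).2 (by rintro u (rfl | rfl); exacts [hx', hy'])
  set M := ((T : Subgroup G).map π).comap π with hM
  have hVM : V ≤ M := (closure_le _).2 (by rintro u (rfl | rfl); exacts [hxT, hyT])
  obtain ⟨U, hU⟩ := ((S.isPGroup'.to_le hVS).comap_subtype (K := M) :
    IsPGroup 2 (V.subgroupOf M)).exists_le_sylow
  obtain ⟨T₁, hT₁⟩ := (U.isPGroup'.map M.subtype).exists_le_sylow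
  have hTM : (T : Subgroup G) ≤ M := le_comap_map _ _
  have hUeq : (U : Subgroup M).map M.subtype = T₁ := by
    refine eq_of_le_of_card_ge hT₁ ?_
    rw [card_map_of_injective M.subtype_injective, T₁.card_eq_multiplicity, ← T.card_eq_multiplicity,
      ← Nat.card_congr (subgroupOfEquivOfLe hTM).toEquiv]
    exact le_of_eq ((T.subtype hTM).card_eq_multiplicity.trans U.card_eq_multiplicity.symm)
  have hT₁M : (T₁ : Subgroup G) ≤ M := hUeq ▸ map_subtype_le _
  have hVT : V ≤ (T₁ : Subgroup G) := fun u hu => hUeq ▸ ⟨⟨u, hVM hu⟩, hU hu, rfl⟩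
  have e : S = T₁ := hG S T₁ x y hx2 hy2 (fun e => hne (congrArg π e)) hxy hx' hy'
    (hVT (subset_closure (Or.inl rfl))) (hVT (subset_closure (Or.inr rfl)))
  refine Sylow.ext (eq_of_le_of_card_ge ?_ ?_)
  · rw [Sylow.coe_mapSurjective, Sylow.coe_mapSurjective, e]
    exact map_le_iff_le_comap.2 hT₁M
  · rw [(S.mapSurjective hsurj).card_eq_multiplicity, (T.mapSurjective hsurj).card_eq_multiplicity]

/-- A 2-element normalising a four-containing subgroup of a Sylow subgroup lies in it. -/
theorem mem_of_normalizes {K : Subgroup G} (hK : Four K) {S : Sylow 2 G} (hKS : K ≤ (S : Subgroup G)) {g : G}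
    (hg : IsPGroup 2 (zpowers g)) (hn : ∀ u ∈ K, g * u * g⁻¹ ∈ K) : g ∈ (S : Subgroup G) := by
  haveI := Fact.mk Nat.prime_two
  have hm : K.map (MulAut.conj g).toMonoidHom = K := eq_of_le_of_card_ge
    (by rintro _ ⟨v, hv, rfl⟩; exact hn v hv) (by rw [card_map_of_injective (MulAut.conj g).injective])
  have hmem : g ∈ normalizer (S : Set G) := by
    rw [← Sylow.smul_eq_iff_mem_normalizer]
    refine hG.eq_of_four hK ?_ hKS
    intro u hu
    rw [← hm] at hu
    obtain ⟨v, hv, rfl⟩ := hu
    rw [Sylow.coe_subgroup_smul, Subgroup.mem_pointwise_smul_iff_inv_smul_mem]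
    simpa [MulAut.smul_def, MulAut.conj_apply, mul_assoc] using hKS hv
  have h3 : g ∈ zpowers g ⊓ normalizer (S : Set G) := ⟨mem_zpowers g, hmem⟩
  rw [hg.inf_normalizer_sylow S] at h3
  exact h3.2

/-- An element normalising a four-containing subgroup of a Sylow subgroup normalises the Sylow subgroup. -/
theorem mem_normalizer_of_normalizes {K : Subgroup G} (hK : Four K) {S : Sylow 2 G} (hKS : K ≤ (S : Subgroup G))
    {g : G} (hn : ∀ u ∈ K, g * u * g⁻¹ ∈ (S : Subgroup G)) : g ∈ normalizer (S : Set G) := by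
  rw [← Sylow.smul_eq_iff_mem_normalizer]
  obtain ⟨x, hx, y, hy, hx2, hy2, hne, hc⟩ := hK
  refine hG _ _ (g * x * g⁻¹) (g * y * g⁻¹) (by rw [CfsgLib.Signalizer.orderOf_conj, hx2])
    (by rw [CfsgLib.Signalizer.orderOf_conj, hy2]) (fun e => hne (mul_left_cancel (mul_right_cancel e)))
    (by rw [show g * x * g⁻¹ * (g * y * g⁻¹) = g * (x * y) * g⁻¹ by group, hc]; group) ?_ ?_ (hn x hx) (hn y hy)
  · rw [Sylow.coe_subgroup_smul, Subgroup.mem_pointwise_smul_iff_inv_smul_mem]
    simpa [MulAut.smul_def, mul_assoc] using hKS hx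
  · rw [Sylow.coe_subgroup_smul, Subgroup.mem_pointwise_smul_iff_inv_smul_mem]
    simpa [MulAut.smul_def, mul_assoc] using hKS hy

/-- For a subgroup `H` meeting `S` in a four group, `S ⊓ H` is a Sylow subgroup of `H`. -/
theorem inf_le_sylow {H : Subgroup G} {S : Sylow 2 G} (hK : Four ((S : Subgroup G) ⊓ H))
    {R : Subgroup G} (hR : IsPGroup 2 R) (hRH : R ≤ H) (hle : (S : Subgroup G) ⊓ H ≤ R) :
    R = (S : Subgroup G) ⊓ H := by
  obtain ⟨T, hT⟩ := hR.exists_le_sylow
  have e : T = S := hG.eq_of_four hK (hle.trans hT) inf_le_left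
  exact le_antisymm (le_inf (e ▸ hT) hRH) hle

/-- The Sylow subgroup of a subgroup `H` meeting `S` in a four group. -/
theorem exists_sylow_inf {H : Subgroup G} {S : Sylow 2 G} (hK : Four ((S : Subgroup G) ⊓ H)) :
    ∃ R : Sylow 2 H, (R : Subgroup H) = (S : Subgroup G).subgroupOf H := by
  haveI := Fact.mk Nat.prime_two
  have hp : IsPGroup 2 ((S : Subgroup G).subgroupOf H) :=
    S.isPGroup'.comap_of_injective H.subtype H.subtype_injective
  obtain ⟨R, hR⟩ := hp.exists_le_sylow
  have h1 : (R : Subgroup H).map H.subtype = (S : Subgroup G) ⊓ H :=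
    hG.inf_le_sylow hK (R.isPGroup'.map _) (map_subtype_le _) (by
      rw [← subgroupOf_map_subtype]; exact map_mono hR)
  refine ⟨R, map_injective H.subtype_injective ?_⟩
  rw [h1, subgroupOf_map_subtype]

/-- Involutions in the centre of a Sylow subgroup conjugate in `G` are conjugate in its normaliser. -/
theorem exists_conj_normalizer {S : Sylow 2 G} {x : G} (hx : orderOf x = 2) (hxS : x ∈ (S : Subgroup G))
    (hxc : ∀ s ∈ (S : Subgroup G), s * x = x * s) {g : G} (hgS : g * x * g⁻¹ ∈ (S : Subgroup G))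
    (hgc : ∀ s ∈ (S : Subgroup G), s * (g * x * g⁻¹) = g * x * g⁻¹ * s) :
    ∃ n ∈ normalizer (S : Set G), n * x * n⁻¹ = g * x * g⁻¹ := by
  haveI := Fact.mk Nat.prime_two
  set y := g * x * g⁻¹ with hy
  -- both Sylow subgroups lie in the centraliser of `y`
  set C := centralizer ({y} : Set G) with hC
  have hS : (S : Subgroup G) ≤ C := fun s hs => mem_centralizer_singleton_iff.2 (hgc s hs)
  have hT : ((g • S : Sylow 2 G) : Subgroup G) ≤ C := by
    intro s hs
    rw [Sylow.coe_subgroup_smul, Subgroup.mem_pointwise_smul_iff_inv_smul_mem] at hs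
    have h1 := hxc _ hs
    simp only [MulAut.smul_def, map_inv, MulAut.conj_inv_apply] at h1
    refine mem_centralizer_singleton_iff.2 ?_
    calc s * y = g * (g⁻¹ * s * g * x) * g⁻¹ := by rw [hy]; group
      _ = g * (x * (g⁻¹ * s * g)) * g⁻¹ := by rw [h1]
      _ = y * s := by rw [hy]; group
  obtain ⟨⟨c, hc⟩, hcc⟩ := MulAction.exists_smul_eq C ((g • S).subtype hT) (S.subtype hS)
  refine ⟨c * g, ?_, ?_⟩
  · rw [← Sylow.smul_eq_iff_mem_normalizer, mul_smul]
    refine Sylow.subtype_injective (hP := ?_) (hQ := hS) ?_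
    · intro s hs
      rw [Sylow.coe_subgroup_smul, Subgroup.mem_pointwise_smul_iff_inv_smul_mem] at hs
      have h1 : c⁻¹ * s * c ∈ C := hT (by simpa [MulAut.smul_def] using hs)
      simpa [mul_assoc] using mul_mem (mul_mem hc h1) (inv_mem hc)
    · rw [← hcc, Sylow.smul_subtype]; rfl
  · have h := mem_centralizer_singleton_iff.1 hc
    calc c * g * x * (c * g)⁻¹ = c * y * c⁻¹ := by rw [hy]; group
      _ = y := by rw [h]; group

/-- An elementary group of order eight centralises every odd group it normalises; so does the Sylow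
subgroup containing it, if that normalises it as well. -/
theorem commute_odd {S : Sylow 2 G} {E : Subgroup G} (hE : Cfsg.IsElementaryAbelian 2 E) (h8 : 8 ≤ Nat.card E)
    (hES : E ≤ (S : Subgroup G)) {N : Subgroup G} (hN : Odd (Nat.card N))
    {R : Subgroup G} (hRS : R ≤ (S : Subgroup G)) (hER : E ≤ R) (hRN : R ≤ normalizer (N : Set G)) :
    ∀ r ∈ R, ∀ n ∈ N, r * n = n * r := by
  haveI := Fact.mk Nat.prime_two
  set Y := N ⊓ centralizer (R : Set G) with hY
  have hle : N ≤ Y := by
    refine CfsgLib.Signalizer.le_of_hyperplanes_le hE ?_ (hER.trans hRN) fun B hBE hB => ?_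
    · rw [← even_iff_two_dvd, Nat.not_even_iff_odd]; exact hN
    · rintro n ⟨hn, hnB⟩
      have hB4 : 4 ≤ Nat.card B := by
        have h1 := (B.subgroupOf E).card_mul_index
        rw [Nat.card_congr (subgroupOfEquivOfLe hBE).toEquiv] at h1
        have h2 : (B.subgroupOf E).index ≤ 2 := hB
        by_contra hlt
        have : Nat.card B * (B.subgroupOf E).index ≤ 3 * 2 := Nat.mul_le_mul (by omega) h2
        omega
      have hfour : Four B := by
        haveI : Nontrivial B := Finite.one_lt_card_iff_nontrivial.1 (by omega)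
        obtain ⟨⟨x, hx⟩, hx1⟩ := exists_ne (1 : B)
        obtain ⟨⟨y, hy⟩, hy1, hyx⟩ : ∃ y : B, y ≠ 1 ∧ y ≠ ⟨x, hx⟩ := by
          by_contra hno
          push Not at hno
          have : Nat.card B ≤ Nat.card Bool := Nat.card_le_card_of_surjective
            (fun b : Bool => if b then (1 : B) else ⟨x, hx⟩) fun z => by
              by_cases hz : z = 1
              · exact ⟨true, hz.symm⟩
              · exact ⟨false, (hno z hz).symm⟩
          rw [Nat.card_eq_fintype_card (α := Bool), Fintype.card_bool] at this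
          omega
        exact ⟨x, hx, y, hy, CfsgLib.Signalizer.elementary_orderOf hE (hBE hx) (fun e => hx1 (Subtype.ext e)),
          CfsgLib.Signalizer.elementary_orderOf hE (hBE hy) (fun e => hy1 (Subtype.ext e)),
          fun e => hyx (Subtype.ext e.symm), CfsgLib.Signalizer.elementary_comm hE (hBE hx) (hBE hy)⟩
      have hnS : n ∈ normalizer (S : Set G) :=
        hG.mem_normalizer_of_normalizes hfour (hBE.trans hES) fun u hu => by
          rw [show n * u = u * n from (mem_centralizer_iff.1 hnB u hu).symm, mul_inv_cancel_right]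
          exact hES (hBE hu)
      refine ⟨hn, mem_centralizer_iff.2 fun r hr => ?_⟩
      -- the commutator lies in `N` and in `S`
      have h1 : n * r * n⁻¹ * r⁻¹ ∈ N := by
        have h := (mem_normalizer_iff.1 (hRN hr) n⁻¹).1 (inv_mem hn)
        simpa [mul_assoc] using mul_mem hn h
      have h2 : n * r * n⁻¹ * r⁻¹ ∈ (S : Subgroup G) :=
        mul_mem ((mem_normalizer_iff.1 hnS r).1 (hRS hr)) (inv_mem (hRS hr))
      obtain ⟨k, hk⟩ := S.isPGroup' ⟨_, h2⟩
      have h4 : orderOf (n * r * n⁻¹ * r⁻¹) ∣ 2 ^ k := orderOf_dvd_of_pow_eq_one (congrArg Subtype.val hk)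
      have h5 := Nat.eq_one_of_dvd_coprimes ((Nat.coprime_two_left.2 hN).pow_left k) h4
        (Subgroup.orderOf_dvd_natCard N h1)
      rw [orderOf_eq_one_iff, mul_inv_eq_one, mul_inv_eq_iff_eq_mul] at h5
      exact h5.symm
  exact fun r hr n hn => mem_centralizer_iff.1 (hle hn).2 r hr

end SmallMeet

end CfsgLib.RankOneInter
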