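import Cfsg.Agent.Lib.Invol.RankOneInter.TI
import Cfsg.Agent.Lib.Invol.RankOneInter.Basic

/-!
Owner: helper29. S3310, the trivial intersection theorem with the odd core left in: it is centralised by every
Sylow 2-subgroup.
-/

set_option autoImplicit false
set_option linter.style.haveILetI false
set_option linter.unusedSectionVars false

namespace CfsgLib.RankOneInter

open Subgroup MulAction
open CfsgLib.Signalizer (involution_sq involution_ne_one orderOf_eq_two_of orderOf_conj)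

universe u

variable {K : Type u} [Group K] [Finite K]

/-- The hypotheses, with the odd core left in. -/
structure SingleCore (K : Type u) [Group K] [Finite K] (N : Subgroup K) : Prop where
  normal : N.Normal
  four : ∃ S : Sylow 2 K, Four ((S : Subgroup K) ⊓ N)
  single : ∀ x ∈ N, orderOf x = 2 → ∀ S T : Sylow 2 K, x ∈ (S : Subgroup K) → x ∈ (T : Subgroup K) → S = T
  trivial : ∀ x : K, (∀ S : Sylow 2 K, x ∈ (S : Subgroup K)) → x = 1

/-- The natural map onto the quotient by the odd core. -/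
abbrev piO (K : Type u) [Group K] : K →* K ⧸ Cfsg.oddCore K := QuotientGroup.mk' (Cfsg.oddCore K)

theorem piO_surjective : Function.Surjective (piO K) := QuotientGroup.mk'_surjective _

/-- The map is injective on the two-elements. -/
theorem eq_one_of_piO {S : Sylow 2 K} {x : K} (hx : x ∈ (S : Subgroup K)) (h : piO K x = 1) : x = 1 := by
  obtain ⟨k, hk⟩ := S.isPGroup' ⟨x, hx⟩
  exact orderOf_eq_one_iff.1 (Nat.eq_one_of_dvd_coprimes
    ((Nat.coprime_two_left.2 (CfsgLib.ZStar.odd_card_oddCore K)).pow_left k)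
    (orderOf_dvd_of_pow_eq_one (congrArg Subtype.val hk))
    (orderOf_dvd_natCard (Cfsg.oddCore K) ((QuotientGroup.eq_one_iff x).1 h)))

theorem piO_inj {S : Sylow 2 K} {x y : K} (hx : x ∈ (S : Subgroup K)) (hy : y ∈ (S : Subgroup K))
    (h : piO K x = piO K y) : x = y :=
  inv_mul_eq_one.1 (eq_one_of_piO (mul_mem (inv_mem hx) hy) (by rw [map_mul, map_inv, h, inv_mul_cancel]))

/-- The image of a Sylow subgroup. -/
noncomputable def piS (S : Sylow 2 K) : Sylow 2 (K ⧸ Cfsg.oddCore K) := S.mapSurjective piO_surjective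

theorem coe_piS (S : Sylow 2 K) :
    ((piS S : Sylow 2 (K ⧸ Cfsg.oddCore K)) : Subgroup (K ⧸ Cfsg.oddCore K)) = (S : Subgroup K).map (piO K) :=
  Sylow.coe_mapSurjective _ _

theorem piO_mem {S : Sylow 2 K} {x : K} (hx : x ∈ (S : Subgroup K)) :
    piO K x ∈ (piS S : Subgroup (K ⧸ Cfsg.oddCore K)) := by
  rw [coe_piS]; exact ⟨x, hx, rfl⟩

theorem piS_surjective (S' : Sylow 2 (K ⧸ Cfsg.oddCore K)) : ∃ S : Sylow 2 K, piS S = S' := by
  haveI := Fact.mk Nat.prime_two
  exact Sylow.mapSurjective_surjective piO_surjective 2 S'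

theorem conj_mem_sylow {g x : K} {S : Sylow 2 K} (hx : x ∈ (S : Subgroup K)) :
    g * x * g⁻¹ ∈ ((g • S : Sylow 2 K) : Subgroup K) := by
  refine mem_smul_sylow.2 ?_
  rwa [show g⁻¹ * (g * x * g⁻¹) * g = x by group]

theorem piS_smul (g : K) (S : Sylow 2 K) : piS (g • S) = piO K g • piS S := by
  refine Sylow.ext ?_
  ext x
  constructor
  · intro hx
    rw [coe_piS] at hx
    obtain ⟨y, hy, rfl⟩ := hx
    rw [mem_smul_sylow, ← map_inv, ← map_mul, ← map_mul]
    exact piO_mem (mem_smul_sylow.1 hy)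
  · intro hx
    rw [mem_smul_sylow, coe_piS] at hx
    obtain ⟨y, hy, he⟩ := hx
    rw [coe_piS]
    refine ⟨g * y * g⁻¹, conj_mem_sylow hy, ?_⟩
    rw [map_mul, map_mul, map_inv, he]
    group

namespace SingleCore

variable {N : Subgroup K} (h : SingleCore K N)
include h

theorem four_at (S : Sylow 2 K) : Four ((S : Subgroup K) ⊓ N) := by
  haveI := Fact.mk Nat.prime_two
  obtain ⟨S₀, x, ⟨hxS, hxN⟩, y, ⟨hyS, hyN⟩, hx2, hy2, hne, hc⟩ := h.four
  obtain ⟨g, rfl⟩ := MulAction.exists_smul_eq K S₀ S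
  refine ⟨g * x * g⁻¹, ⟨conj_mem_sylow hxS, h.normal.conj_mem x hxN g⟩,
    g * y * g⁻¹, ⟨conj_mem_sylow hyS, h.normal.conj_mem y hyN g⟩,
    (orderOf_conj g x).trans hx2, (orderOf_conj g y).trans hy2,
    fun e => hne (mul_left_cancel (mul_right_cancel e)), ?_⟩
  rw [show g * x * g⁻¹ * (g * y * g⁻¹) = g * (x * y) * g⁻¹ by group, hc]
  group

theorem core_smul (S : Sylow 2 K) {o : K} (ho : o ∈ Cfsg.oddCore K) : o • S = S := by
  obtain ⟨x, ⟨hxS, hxN⟩, y, ⟨hyS, hyN⟩, hx2, hy2, hne, hc⟩ := h.four_at S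
  rw [Sylow.smul_eq_iff_mem_normalizer]
  have hn : ∀ g : K, g ∈ normalizer (Cfsg.oddCore K : Set K) := fun g =>
    normalizer_eq_top (H := Cfsg.oddCore K) ▸ mem_top g
  refine CfsgLib.Bender.le_of_four_centralizers (Y := normalizer (S : Set K))
    (CfsgLib.ZStar.odd_card_oddCore K) hx2 hy2 hc hne (hn x) (hn y) (fun c _ a ha hca => ?_) ho
  have haS : a ∈ (S : Subgroup K) ∧ a ∈ N ∧ orderOf a = 2 := by
    rcases ha with rfl | rfl | rfl
    · exact ⟨hxS, hxN, hx2⟩
    · exact ⟨hyS, hyN, hy2⟩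
    · refine ⟨mul_mem hxS hyS, mul_mem hxN hyN, orderOf_eq_two_of (fun e => hne ?_) ?_⟩
      · rw [← CfsgLib.Signalizer.involution_inv hx2]
        exact (eq_inv_of_mul_eq_one_right e).symm
      · rw [mul_assoc, ← mul_assoc y x, ← hc, mul_assoc, involution_sq hy2, mul_one, involution_sq hx2]
  rw [← Sylow.smul_eq_iff_mem_normalizer]
  refine h.single a haS.2.1 haS.2.2 _ _ (mem_smul_sylow.2 ?_) haS.1
  rw [mul_assoc, ← hca, inv_mul_cancel_left]
  exact haS.1

/-- The odd core is centralised by the Sylow 2-subgroups. -/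
theorem core_commute (S : Sylow 2 K) {s o : K} (hs : s ∈ (S : Subgroup K)) (ho : o ∈ Cfsg.oddCore K) :
    s * o = o * s := by
  have h1 : o * s * o⁻¹ * s⁻¹ ∈ (S : Subgroup K) := by
    refine mul_mem ?_ (inv_mem hs)
    have : o * s * o⁻¹ ∈ ((o • S : Sylow 2 K) : Subgroup K) := conj_mem_sylow hs
    rwa [h.core_smul S ho] at this
  have h2 : piO K (o * s * o⁻¹ * s⁻¹) = 1 := by
    rw [map_mul, map_mul, map_mul, map_inv, map_inv,
      show piO K o = 1 from (QuotientGroup.eq_one_iff o).2 ho]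
    group
  have := eq_one_of_piO h1 h2
  rw [mul_inv_eq_one, mul_inv_eq_iff_eq_mul] at this
  exact this.symm

theorem piS_injective {S T : Sylow 2 K} (e : piS S = piS T) : S = T := by
  refine (Sylow.ext (eq_of_le_of_card_ge (fun s hs => ?_) ?_))
  · have h1 : piO K s ∈ (piS T : Subgroup (K ⧸ Cfsg.oddCore K)) := e ▸ piO_mem hs
    rw [coe_piS] at h1
    obtain ⟨t, ht, he⟩ := h1
    have ho : t⁻¹ * s ∈ Cfsg.oddCore K := (QuotientGroup.eq_one_iff _).1 (by
      show piO K (t⁻¹ * s) = 1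
      rw [map_mul, map_inv, he, inv_mul_cancel])
    set o := t⁻¹ * s with ho'
    have hc := h.core_commute T ht ho
    have hs' : s = t * o := (mul_inv_cancel_left t s).symm
    obtain ⟨k, hk⟩ := S.isPGroup' ⟨s, hs⟩
    obtain ⟨l, hl⟩ := T.isPGroup' ⟨t, ht⟩
    have hk' : s ^ 2 ^ k = 1 := congrArg Subtype.val hk
    have hl' : t ^ 2 ^ l = 1 := congrArg Subtype.val hl
    have h3 : o ^ 2 ^ (k + l) = 1 := by
      have hts : s ^ 2 ^ (k + l) = 1 := by rw [pow_add, pow_mul, hk', one_pow]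
      have htt : t ^ 2 ^ (k + l) = 1 := by rw [add_comm, pow_add, pow_mul, hl', one_pow]
      rw [hs', (show Commute t o from hc).mul_pow, htt, one_mul] at hts
      exact hts
    have : o = 1 := orderOf_eq_one_iff.1 (Nat.eq_one_of_dvd_coprimes
      ((Nat.coprime_two_left.2 (CfsgLib.ZStar.odd_card_oddCore K)).pow_left (k + l))
      (orderOf_dvd_of_pow_eq_one h3) (orderOf_dvd_natCard _ ho))
    rw [hs', this, mul_one]
    exact ht
  · exact le_of_eq (T.card_eq_multiplicity.trans S.card_eq_multiplicity.symm)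

/-- The quotient satisfies the hypotheses of the theorem. -/
theorem quotient : SingleData (K ⧸ Cfsg.oddCore K)
    (closure {x | x ∈ N.map (piO K) ∧ orderOf x = 2}) := by
  haveI := Fact.mk Nat.prime_two
  haveI : (N.map (piO K)).Normal := h.normal.map _ piO_surjective
  have hO : Cfsg.oddCore (K ⧸ Cfsg.oddCore K) = ⊥ := by
    refine (eq_bot_iff_forall _).2 fun z hz => ?_
    obtain ⟨y, rfl⟩ := piO_surjective z
    refine (QuotientGroup.eq_one_iff y).2 ?_
    haveI : ((Cfsg.oddCore (K ⧸ Cfsg.oddCore K)).comap (piO K)).Normal :=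
      (inferInstance : (Cfsg.oddCore (K ⧸ Cfsg.oddCore K)).Normal).comap _
    refine CfsgLib.ZStar.le_oddCore (N := (Cfsg.oddCore (K ⧸ Cfsg.oddCore K)).comap (piO K)) inferInstance ?_ hz
    rw [CfsgLib.Core.card_comap_mk']
    exact (CfsgLib.ZStar.odd_card_oddCore K).mul (CfsgLib.ZStar.odd_card_oddCore _)
  have hO2 : Cfsg.pCore 2 (K ⧸ Cfsg.oddCore K) = ⊥ := by
    refine (eq_bot_iff_forall _).2 fun z hz => ?_
    have hzS : ∀ S : Sylow 2 K, z ∈ (piS S : Subgroup (K ⧸ Cfsg.oddCore K)) := fun S =>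
      CfsgLib.HallGen.pCore_le_sylow (piS S) hz
    obtain ⟨S₀⟩ : Nonempty (Sylow 2 K) := inferInstance
    have h0 := hzS S₀
    rw [coe_piS] at h0
    obtain ⟨x, hx, rfl⟩ := h0
    refine (congrArg (piO K) (h.trivial x fun S => ?_)).trans (map_one _)
    have h1 := hzS S
    rw [coe_piS] at h1
    obtain ⟨y, hy, hye⟩ := h1
    have ho : y⁻¹ * x ∈ Cfsg.oddCore K := (QuotientGroup.eq_one_iff _).1 (by
      show piO K (y⁻¹ * x) = 1
      rw [map_mul, map_inv, hye, inv_mul_cancel])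
    -- `x` fixes `S`, as `y` and the core do
    obtain ⟨k, hk⟩ := S₀.isPGroup' ⟨x, hx⟩
    refine mem_sylow_of_smul_eq (n := k) (congrArg Subtype.val hk) ?_
    rw [show x = y * (y⁻¹ * x) by group, mul_smul, h.core_smul S ho,
      Sylow.smul_eq_iff_mem_normalizer.2 (le_normalizer hy)]
  have heven : Even (Nat.card (N.map (piO K))) := by
    obtain ⟨S, x, ⟨hxS, hxN⟩, -, -, hx2, -⟩ := h.four
    rw [even_iff_two_dvd]
    have h1 : orderOf (piO K x) = 2 := orderOf_eq_two_of (fun e => involution_ne_one hx2 (eq_one_of_piO hxS e))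
      (by rw [← map_mul, involution_sq hx2, map_one])
    exact dvd_trans (dvd_of_eq h1.symm) (orderOf_dvd_natCard _ (mem_map_of_mem _ hxN))
  refine singleData_of_normal hO hO2 _ heven fun z hz hz2 S' T' hzS hzT => ?_
  obtain ⟨S, rfl⟩ := piS_surjective S'
  obtain ⟨T, rfl⟩ := piS_surjective T'
  rw [coe_piS] at hzS hzT
  obtain ⟨x, hx, rfl⟩ := hzS
  obtain ⟨y, hy, hye⟩ := hzT
  have hx2 : orderOf x = 2 := orderOf_eq_two_of
    (fun e => involution_ne_one hz2 (by rw [e, map_one]))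
    (eq_one_of_piO (mul_mem hx hx) (by rw [map_mul]; exact involution_sq hz2))
  have hy2 : orderOf y = 2 := orderOf_eq_two_of
    (fun e => involution_ne_one hz2 (by rw [← hye, e, map_one]))
    (eq_one_of_piO (mul_mem hy hy) (by rw [map_mul, hye]; exact involution_sq hz2))
  have ho : y⁻¹ * x ∈ Cfsg.oddCore K := (QuotientGroup.eq_one_iff _).1 (by
    show piO K (y⁻¹ * x) = 1
    rw [map_mul, map_inv, hye, inv_mul_cancel])
  have hxy : x = y := by
    set o := y⁻¹ * x with ho'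
    have hc := h.core_commute T hy ho
    have hxyo : x = y * o := (mul_inv_cancel_left y x).symm
    have h2 : o * o = 1 := by
      have := involution_sq hx2
      rw [hxyo, show y * o * (y * o) = y * (o * y) * o by group, ← hc, ← mul_assoc y y o, involution_sq hy2,
        one_mul] at this
      exact this
    have : o = 1 := by
      by_contra hne
      have h3 := orderOf_dvd_natCard _ ho
      rw [orderOf_eq_two_of hne h2] at h3
      exact Nat.not_even_iff_odd.2 (CfsgLib.ZStar.odd_card_oddCore K) (even_iff_two_dvd.2 h3)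
    rw [hxyo, this, mul_one]
  obtain ⟨n, hnN, hne⟩ := hz
  -- the involution lies in `N`
  have hxN : x ∈ N := by
    have ho' : n⁻¹ * x ∈ Cfsg.oddCore K := (QuotientGroup.eq_one_iff _).1 (by
      show piO K (n⁻¹ * x) = 1
      rw [map_mul, map_inv, hne, inv_mul_cancel])
    haveI := h.normal
    -- the image of `x` in `K ⧸ N` has order dividing `2` and an odd number
    refine (QuotientGroup.eq_one_iff x).1 ?_
    have he : (x : K ⧸ N) = ((n⁻¹ * x : K) : K ⧸ N) := by
      rw [QuotientGroup.mk_mul, QuotientGroup.mk_inv, (QuotientGroup.eq_one_iff n).2 hnN, inv_one, one_mul]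
    refine orderOf_eq_one_iff.1 (Nat.eq_one_of_dvd_coprimes
      (Nat.coprime_two_left.2 (CfsgLib.ZStar.odd_card_oddCore K))
      (by rw [← hx2]; exact orderOf_map_dvd (QuotientGroup.mk' N) x) ?_)
    rw [he]
    exact (orderOf_map_dvd (QuotientGroup.mk' N) _).trans (orderOf_dvd_natCard _ ho')
  exact congrArg piS (h.single x hxN hx2 S T hx (hxy ▸ hy))

theorem inf_eq_bot {S T : Sylow 2 K} (hne : S ≠ T) : (S : Subgroup K) ⊓ (T : Subgroup K) = ⊥ := by
  refine (eq_bot_iff_forall _).2 fun x hx => eq_one_of_piO hx.1 ?_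
  rw [← mem_bot, ← h.quotient.inf_eq_bot (fun e => hne (h.piS_injective e))]
  exact ⟨piO_mem hx.1, piO_mem hx.2⟩

end SingleCore

/-- The TI theorem. -/
theorem ti_of_single (N : Subgroup K) [N.Normal] (hfour : ∃ S : Sylow 2 K, Four ((S : Subgroup K) ⊓ N))
    (hsingle : ∀ x ∈ N, orderOf x = 2 → ∀ S T : Sylow 2 K, x ∈ (S : Subgroup K) → x ∈ (T : Subgroup K) → S = T)
    (hcore : ∀ x : K, (∀ S : Sylow 2 K, x ∈ (S : Subgroup K)) → x = 1) :
    ∀ S T : Sylow 2 K, S ≠ T → (S : Subgroup K) ⊓ (T : Subgroup K) = ⊥ := fun _ _ hne =>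
  (SingleCore.mk inferInstance hfour hsingle hcore).inf_eq_bot hne

theorem singleCore_of_ti (hti : ∀ S T : Sylow 2 K, S ≠ T → (S : Subgroup K) ⊓ (T : Subgroup K) = ⊥)
    (hfour : ∃ S : Sylow 2 K, Four (S : Subgroup K)) (hne : ∃ S T : Sylow 2 K, S ≠ T) :
    SingleCore K ⊤ := by
  refine ⟨inferInstance, by simpa using hfour, fun x _ hx2 S T hS hT => ?_, fun x hx => ?_⟩
  · by_contra h
    exact involution_ne_one hx2 (by rw [← mem_bot, ← hti S T h]; exact ⟨hS, hT⟩)
  · obtain ⟨S, T, h⟩ := hne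
    rw [← mem_bot, ← hti S T h]
    exact ⟨hx S, hx T⟩

/-- The rank one family, modulo the kernel. -/
theorem ti_family (hti : ∀ S T : Sylow 2 K, S ≠ T → (S : Subgroup K) ⊓ (T : Subgroup K) = ⊥)
    (hfour : ∃ S : Sylow 2 K, Four (S : Subgroup K)) (hne : ∃ S T : Sylow 2 K, S ≠ T) (S : Sylow 2 K) :
    CfsgLib.Bender.RankOneFamily ↥(Cfsg.pElementClosure 2
      (⊤ : Subgroup (K ⧸ (normalizer (S : Set K)).normalCore))) := by
  haveI := Fact.mk Nat.prime_two
  obtain ⟨x, ⟨hxS, -⟩, y, ⟨hyS, -⟩, hx2, hy2, hxy, hc⟩ := (singleCore_of_ti hti hfour hne).four_at S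
  have hSE : Cfsg.IsStronglyEmbedded (normalizer (S : Set K)) := by
    refine ⟨fun htop => ?_, ?_, fun g hg => ?_⟩
    · obtain ⟨S₁, S₂, h12⟩ := hne
      have key : ∀ T : Sylow 2 K, T = S := fun T => by
        obtain ⟨g, rfl⟩ := MulAction.exists_smul_eq K S T
        exact Sylow.smul_eq_iff_mem_normalizer.2 (htop ▸ mem_top g)
      exact h12 ((key S₁).trans (key S₂).symm)
    · exact even_iff_two_dvd.2 (dvd_trans (dvd_of_eq hx2.symm) (orderOf_dvd_natCard _ (le_normalizer hxS)))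
    · rw [← Nat.not_even_iff_odd]
      intro hev
      obtain ⟨z, ⟨hz1, w, hw, hwz⟩, hz2⟩ := CfsgLib.Signalizer.exists_involution_of_even hev
      have hpow : z ^ 2 ^ 1 = 1 := by rw [pow_one, ← hz2, pow_orderOf_eq_one]
      have hzg : z • g • S = g • S := by
        rw [show z = g * w * g⁻¹ from hwz.symm, mul_smul, mul_smul, inv_smul_smul,
          Sylow.smul_eq_iff_mem_normalizer.2 hw]
      refine hg (Sylow.smul_eq_iff_mem_normalizer.1 ?_)
      by_contra hgS
      refine involution_ne_one hz2 ?_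
      rw [← mem_bot, ← hti _ _ hgS]
      exact ⟨mem_sylow_of_smul_eq hpow hzg,
        mem_sylow_of_smul_eq hpow (Sylow.smul_eq_iff_mem_normalizer.2 hz1)⟩
  exact CfsgLib.Bender.closure_family_quot CfsgLib.Bender.benderGen hSE
    ⟨x, le_normalizer hxS, y, le_normalizer hyS, hx2, hy2, hxy, hc⟩ _ rfl

end CfsgLib.RankOneInter
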