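import Cfsg.Agent.Lib.Invol.RankOneInter.Basic

/-!
Owner: helper5. The interfaces between the parts of S3310.

* `TIMod`: two Sylow 2-subgroups meet in `O₂(G)`.
* `Grid`: case (b) for a group without odd normal subgroup.
* `TheoremB`: the case of a central involution.
-/

set_option autoImplicit false

namespace CfsgLib.RankOneInter

universe u

/-- Two Sylow 2-subgroups meet in `O₂(G)` only. -/
def TIMod (G : Type*) [Group G] : Prop :=
  ∀ S T : Sylow 2 G, S ≠ T → (S : Subgroup G) ⊓ (T : Subgroup G) = Cfsg.pCore 2 G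

/-- A subgroup of index odd or twice odd, a central product of two copies of `SL(2,5)`. -/
def Grid (G : Type*) [Group G] : Prop :=
  ∃ (G₁ : Subgroup G) (_ : G₁.Normal), (Odd G₁.index ∨ ∃ k : ℕ, Odd k ∧ G₁.index = 2 * k) ∧
    ∃ (Z : Subgroup (Matrix.SpecialLinearGroup (Fin 2) (ZMod 5) × Matrix.SpecialLinearGroup (Fin 2) (ZMod 5)))
      (_ : Z.Normal),
      Z = Subgroup.zpowers ((-1 : Matrix.SpecialLinearGroup (Fin 2) (ZMod 5)),
        (-1 : Matrix.SpecialLinearGroup (Fin 2) (ZMod 5))) ∧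
      Nonempty (↥G₁ ≃* (Matrix.SpecialLinearGroup (Fin 2) (ZMod 5) × Matrix.SpecialLinearGroup (Fin 2) (ZMod 5)) ⧸ Z)

/-- The case of a central involution, for groups whose Sylow 2-subgroups have 2-rank at least two. -/
def TheoremB : Prop :=
  ∀ (G : Type u) [Group G] [Finite G], SmallMeet G → Cfsg.oddCore G = ⊥ →
    ∀ z : G, orderOf z = 2 → (∀ g : G, g * z = z * g) → (∃ x : G, orderOf x = 2 ∧ x ≠ z) → TIMod G ∨ Grid G

end CfsgLib.RankOneInter
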