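import Cfsg.Agent.Lib.Invol.RankOneInter.TISingle

/-!
Owner: helper29. S3310: the facts on two Sylow 2-subgroups of a group in which they meet trivially.
-/

set_option autoImplicit false
set_option linter.style.haveILetI false
set_option linter.unusedSectionVars false

namespace CfsgLib.RankOneInter

open Subgroup MulAction
open CfsgLib.Signalizer (involution_sq involution_ne_one orderOf_eq_two_of)
open CfsgLib.Lie.RankOne (mem_D t_smul_ne t_smul_ta eq_one_of_fix exists_smul_eq_ta existsUnique_smul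
  involution_mem_Q fix_unique)

universe u

/-- A setup with the second point moved. -/
theorem setup_move {G Ω : Type*} [Group G] [Finite G] [MulAction G Ω] [FaithfulSMul G Ω] {a : Ω} {t : G}
    {Q : Subgroup G} (hS : Cfsg.IsRankOneSetup G Ω a t Q) {c : Ω} (hc : c ≠ a) :
    ∃ t' : G, t' • a = c ∧ Cfsg.IsRankOneSetup G Ω a t' Q := by
  obtain ⟨g, hga, hgc⟩ := CfsgLib.Lie.RankOne.pairs hS (b := a) (c := t • a) (t_smul_ne hS).symm hc.symm
  have hgi : g⁻¹ • a = a := inv_smul_eq_iff.2 hga.symm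
  have htc : (g * t * g⁻¹) • a = c := by rw [mul_smul, mul_smul, hgi, hgc]
  have ht1 : g * t * g⁻¹ ≠ 1 := fun e => hS.ne_one (conj_eq_one_iff.1 e)
  refine ⟨_, htc, hS.two_transitive, ?_, ht1, fun e => hc (htc ▸ e), hS.le, hS.conj_mem, ?_, ?_, hS.even_card, ?_⟩
  · rw [show g * t * g⁻¹ * (g * t * g⁻¹) = g * (t * t) * g⁻¹ by group, hS.mul_self]
    group
  · rw [htc]
    exact (Subgroup.eq_bot_iff_forall _).2 fun x hx => eq_one_of_fix hS hx.1 hc hx.2
  · rw [htc]
    refine le_antisymm (sup_le hS.le inf_le_left) fun h hh => ?_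
    obtain ⟨y, hy, -⟩ := existsUnique_smul hS c (h • c) hc fun e => hc (smul_left_cancel h (e.trans
      (show h • a = a from hh).symm))
    have h1 : (y : G)⁻¹ * h ∈ stabilizer G a ⊓ stabilizer G c :=
      Subgroup.mem_inf.2 ⟨mul_mem (inv_mem (hS.le y.2)) hh, by
        show ((y : G)⁻¹ * h) • c = c
        rw [mul_smul, ← hy, inv_smul_smul]⟩
    have := mul_mem (mem_sup_left (T := stabilizer G a ⊓ stabilizer G c) y.2) (mem_sup_right (S := Q) h1)
    rwa [mul_inv_cancel_left] at this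
  · rw [htc, ← Nat.not_even_iff_odd]
    intro hev
    obtain ⟨x, ⟨hxa, hxc⟩, hx2⟩ := CfsgLib.Signalizer.exists_involution_of_even hev
    exact hc (fix_unique hS (involution_ne_one hx2) (involution_sq hx2) hxc hxa)

namespace SingleData

variable {K : Type u} [Group K] [Finite K] {J : Subgroup K} (h : SingleData K J)
include h

theorem le_derivedSeries (n : ℕ) : J ≤ derivedSeries K n := by
  haveI := h.isSimple
  have hne : ⁅J, J⁆ = J := by
    have hc : (commutator J).map J.subtype = ⁅J, J⁆ := by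
      rw [commutator_def, map_commutator, ← MonoidHom.range_eq_map, Subgroup.range_subtype]
    rcases (inferInstance : (commutator J).Normal).eq_bot_or_eq_top with e | e
    · exfalso
      have hM := h.stronglyEmbedded (default : Sylow 2 K)
      set M := (normalizer ((default : Sylow 2 K) : Set K)).subgroupOf J
      haveI : M.Normal := ⟨fun x hx g => by
        have h1 : g * x * g⁻¹ * x⁻¹ = 1 := by
          rw [← mem_bot, ← e]
          exact commutator_mem_commutator (mem_top g) (mem_top x)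
        rw [mul_inv_eq_one.1 h1]
        exact hx⟩
      rcases (inferInstance : M.Normal).eq_bot_or_eq_top with e' | e'
      · have := hM.2.1
        rw [e', Subgroup.card_bot] at this
        exact Nat.not_even_one this
      · exact hM.1 e'
    · rw [← hc, e, ← MonoidHom.range_eq_map, Subgroup.range_subtype]
  induction n with
  | zero => exact le_top
  | succ n ih =>
    rw [derivedSeries_succ]
    exact hne.symm.le.trans (commutator_mono ih ih)

/-- The facts on two points. -/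
theorem line {S T : Sylow 2 K} (hne : T ≠ S) :
    (S : Subgroup K) ≤ J ∧
    (∃ n, 2 ≤ n ∧ Nat.card {x : K // x ∈ (S : Subgroup K) ∧ x * x = 1} = 2 ^ n) ∧
    (∀ x ∈ (S : Subgroup K), x * x = 1 → ∀ s ∈ (S : Subgroup K), s * x = x * s) ∧
    (∀ x ∈ (S : Subgroup K), ∀ y ∈ (S : Subgroup K), x * y * x⁻¹ * y⁻¹ * (x * y * x⁻¹ * y⁻¹) = 1) ∧
    ((∀ x ∈ (S : Subgroup K), ∀ y ∈ (S : Subgroup K), x * y = y * x) → ∀ x ∈ (S : Subgroup K), x * x = 1) ∧
    (∀ U : Sylow 2 K, U ≠ S → ∃ x ∈ (S : Subgroup K), x • T = U) ∧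
    ∃ g ∈ J, Odd (orderOf g) ∧ g • S = S ∧ g • T = T ∧
      (∀ z ∈ (S : Subgroup K), ∀ z' ∈ (S : Subgroup K), z * z = 1 → z' * z' = 1 → z ≠ 1 → z' ≠ 1 →
        ∃ i : ℕ, g ^ i * z * (g ^ i)⁻¹ = z') ∧
      (∀ (i : ℕ) (z : K), z ∈ (S : Subgroup K) ∨ z ∈ (T : Subgroup K) → z * z = 1 → z ≠ 1 →
        g ^ i * z = z * g ^ i → g ^ i = 1) ∧
      (∀ (i : ℕ) (U : Sylow 2 K), U ≠ S → U ≠ T → g ^ i • U = U → g ^ i = 1) := by
  classical
  haveI : Fact (Nat.Prime 2) := ⟨Nat.prime_two⟩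
  haveI := h.normal
  haveI := h.isSimple
  set M := (normalizer (S : Set K)).subgroupOf J with hMdef
  have hSE := h.stronglyEmbedded S
  have hfour := CfsgLib.Bender.four_of_not_rankOne hSE h.not_rankOne
  have hmemM : ∀ x : J, x ∈ M ↔ (x : K) • S = S := fun x =>
    mem_subgroupOf.trans Sylow.smul_eq_iff_mem_normalizer.symm
  have hcore : M.normalCore = ⊥ :=
    (IsSimpleGroup.eq_bot_or_eq_top_of_normal _ inferInstance).resolve_right
      fun e => hSE.1 (top_le_iff.1 (e ▸ M.normalCore_le))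
  obtain ⟨hBS, hsol⟩ := CfsgLib.Bender.benderGen J M hSE hfour
  obtain ⟨U, hUa, hUn, htr, hfree, -, -⟩ := hBS.exists_regular (CfsgLib.Bender.smallerOK _)
    (CfsgLib.Bender.faithful_of_core hcore) _ hsol
  rw [CfsgLib.Bender.stab_base] at hUa hUn
  have hneM : ∀ g : J, g ∉ M → (g : J ⧸ M) ≠ ((1 : J) : J ⧸ M) := fun g hg e =>
    hg (by simpa using QuotientGroup.eq.1 e)
  obtain ⟨t₀, hR₀, hF, -, h2⟩ := CfsgLib.Lie.RankOneClass.exists_setup M hSE U hUa
    (normal_subgroupOf_of_le_normalizer hUn) (by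
      intro g₁ g₂ h₁ h₂
      obtain ⟨u, hu, he⟩ := htr _ _ (hneM g₁ h₁) (hneM g₂ h₂)
      rw [MulAction.Quotient.smul_coe, smul_eq_mul] at he
      exact ⟨u, hu, QuotientGroup.eq.1 he.symm⟩) (by
      intro g hg u hu he
      refine hfree _ (hneM g hg) u hu ?_
      rw [MulAction.Quotient.smul_coe, smul_eq_mul]
      exact (QuotientGroup.eq.2 he).symm)
  haveI := hF
  set a : J ⧸ M := ((1 : J) : J ⧸ M) with ha
  have hmk : ∀ g : J, g • a = (g : J ⧸ M) := fun g => by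
    rw [ha, MulAction.Quotient.smul_coe, smul_eq_mul, mul_one]
  have hpt : ∀ g g' : J, g • a = g' • a ↔ (g : K) • S = (g' : K) • S := fun g g' => by
    rw [hmk, hmk, QuotientGroup.eq, hmemM, Subgroup.coe_mul, Subgroup.coe_inv, mul_smul, inv_smul_eq_iff]
    exact eq_comm
  -- the setup of the pair
  obtain ⟨j, hj, hjT⟩ := h.exists_smul S T
  obtain ⟨t, htc, hR⟩ := setup_move hR₀ (c := (⟨j, hj⟩ : J) • a) fun e => hne (by
    have := (hpt ⟨j, hj⟩ 1).1 (by rw [e, one_smul])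
    rwa [Subgroup.coe_one, one_smul, hjT] at this)
  have htT : (t : K) • S = T := by
    rw [(hpt t ⟨j, hj⟩).1 htc]
    exact hjT
  obtain ⟨m, hm, hqm⟩ := CfsgLib.Lie.RankOneClass.exists_pow_two hR h2
  obtain ⟨k, hk⟩ : ∃ k, Nat.card U = 2 ^ k := by
    rcases TIAuto.shape_cases hR h2 with e | ⟨-, e⟩ | ⟨e, -⟩
    · exact ⟨m, by rw [e, hqm]⟩
    · exact ⟨m * 2, by rw [e, hqm, ← pow_mul]⟩
    · exact ⟨m * 3, by rw [e, hqm, ← pow_mul]⟩
  have hUS : ∀ u ∈ U, (u : K) ∈ (S : Subgroup K) := fun u hu => by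
    refine mem_sylow_of_smul_eq (n := k) ?_ ((hmemM u).1 (hUa hu))
    rw [← hk, ← Subgroup.coe_pow,
      show u ^ Nat.card U = 1 from congrArg Subtype.val (pow_card_eq_one' (x := (⟨u, hu⟩ : U)))]
    rfl
  have hSU : ∀ x ∈ (S : Subgroup K), ∃ u ∈ U, (u : K) = x := fun x hx => by
    obtain ⟨j', hj', hje⟩ := h.exists_smul S (x • T)
    have hja : (⟨j', hj'⟩ : J) • a ≠ a := fun e => hne (by
      have h1 := (hpt ⟨j', hj'⟩ 1).1 (by rw [e, one_smul])
      rw [Subgroup.coe_one, one_smul] at h1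
      exact MulAction.injective x (hje.symm.trans (h1.trans
        (Sylow.smul_eq_iff_mem_normalizer.2 (le_normalizer hx)).symm)))
    obtain ⟨q, hq, hqe⟩ := exists_smul_eq_ta hR hja
    refine ⟨q, hq, ?_⟩
    have h1 : (q : K) • T = x • T := by
      have := (hpt (q * t) ⟨j', hj'⟩).1 (by rw [mul_smul, hqe])
      rwa [Subgroup.coe_mul, mul_smul, htT, hje] at this
    have h2 : (q : K)⁻¹ * x ∈ (S : Subgroup K) := mul_mem (inv_mem (hUS q hq)) hx
    obtain ⟨i, hi⟩ := S.isPGroup' ⟨_, h2⟩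
    have h3 : (q : K)⁻¹ * x ∈ (T : Subgroup K) := mem_sylow_of_smul_eq (n := i) (congrArg Subtype.val hi)
      (by rw [mul_smul, ← h1, inv_smul_smul])
    have h4 : (q : K)⁻¹ * x ∈ (S : Subgroup K) ⊓ (T : Subgroup K) := ⟨h2, h3⟩
    rw [h.inf_eq_bot hne.symm, mem_bot, inv_mul_eq_one] at h4
    exact h4
  -- the involutions
  have hinv : ∀ x ∈ (S : Subgroup K), x * x = 1 → ∃ u : J, (u : K) = x ∧
      u ∈ CfsgLib.OddTransitive.RankOne.involutionGroup hR h2 := fun x hx hxx => by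
    obtain ⟨u, hu, hux⟩ := hSU x hx
    refine ⟨u, hux, (CfsgLib.OddTransitive.RankOne.mem_involutionGroup hR h2).2 ?_⟩
    exact CfsgLib.Lie.RankOneClass.eq_one_or_J hR hu (Subtype.ext (by rw [Subgroup.coe_mul, hux, hxx]; rfl))
  have hinv' : ∀ u : J, u ∈ CfsgLib.OddTransitive.RankOne.involutionGroup hR h2 →
      (u : K) ∈ (S : Subgroup K) ∧ (u : K) * u = 1 := fun u hu => by
    rcases (CfsgLib.OddTransitive.RankOne.mem_involutionGroup hR h2).1 hu with rfl | hu
    · exact ⟨one_mem _, one_mul _⟩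
    · exact ⟨hUS u (CfsgLib.Lie.RankOne.J_mem_Q hR hu), by rw [← Subgroup.coe_mul, hu.2.2]; rfl⟩
  have hcard : Nat.card {x : K // x ∈ (S : Subgroup K) ∧ x * x = 1} = 2 ^ m := by
    rw [← hqm, ← CfsgLib.Lie.RankOneClass.card_involutionGroup hR h2]
    refine (Nat.card_eq_of_bijective
      (fun u : CfsgLib.OddTransitive.RankOne.involutionGroup hR h2 =>
        (⟨((u : J) : K), hinv' u u.2⟩ : {x : K // x ∈ (S : Subgroup K) ∧ x * x = 1}))
      ⟨fun u u' e => Subtype.ext (Subtype.ext (congrArg Subtype.val e :)), fun x => ?_⟩).symm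
    obtain ⟨u, hux, hu⟩ := hinv x.1 x.2.1 x.2.2
    exact ⟨⟨u, hu⟩, Subtype.ext hux⟩
  obtain ⟨C, hC, hcyc, -⟩ := CfsgLib.OddTransitive.RankOne.exists_cyclic hR h2
  haveI := hcyc
  obtain ⟨⟨g, hg⟩, hgen⟩ := IsCyclic.exists_generator (α := C)
  have hgK : ∀ i : ℕ, g ^ i ∈ Cfsg.invertedBy (stabilizer J a ⊓ stabilizer J (t • a)) t := fun i => by
    rw [← hC]; exact pow_mem hg i
  have hg1 := hgK 1
  rw [pow_one] at hg1
  have hfixS : ∀ i : ℕ, ((g ^ i : J) : K) • S = S ∧ ((g ^ i : J) : K) • T = T := fun i => by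
    obtain ⟨h1, h2⟩ := mem_D.1 (hgK i).1
    refine ⟨?_, ?_⟩
    · have := (hpt (g ^ i) 1).1 (by rw [h1, one_smul])
      rwa [Subgroup.coe_one, one_smul] at this
    · have := (hpt (g ^ i * t) t).1 (by rw [mul_smul, h2])
      rwa [Subgroup.coe_mul, mul_smul, htT] at this
  have hone : ∀ (i : ℕ) (z : J), z ∈ Cfsg.involutionsIn (stabilizer J a : Set J) →
      g ^ i * z = z * g ^ i → g ^ i = 1 := fun i z hz hc =>
    CfsgLib.Lie.RankOne.K_eq_one hR (hgK i) hz (by rw [mul_assoc, ← hc, inv_mul_cancel_left])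
  refine ⟨fun x hx => ?_, ⟨m, hm, hcard⟩, fun x hx hxx s hs => ?_, fun x hx y hy => ?_, fun hab x hx => ?_,
    fun V hV => ?_, (g : K), g.2, ?_, ?_, ?_, ?_, ?_, ?_⟩
  · obtain ⟨u, -, rfl⟩ := hSU x hx
    exact u.2
  · obtain ⟨u, hux, hu⟩ := hinv x hx hxx
    obtain ⟨v, hv, rfl⟩ := hSU s hs
    rcases (CfsgLib.OddTransitive.RankOne.mem_involutionGroup hR h2).1 hu with rfl | hu
    · rw [← hux]; simp
    · rw [← hux, ← Subgroup.coe_mul, ← Subgroup.coe_mul, CfsgLib.Lie.RankOne.J_central hR h2 hu hv]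
  · obtain ⟨u, hu, rfl⟩ := hSU x hx
    obtain ⟨v, hv, rfl⟩ := hSU y hy
    obtain ⟨P⟩ := CfsgLib.Lie.RankOneClass.exists_qdec hR h2
    have hPS : ∀ w ∈ U, w ∈ P.S := fun w hw => P.mem_S hw (i := k) (by
      rw [← hk]; exact congrArg Subtype.val (pow_card_eq_one' (x := (⟨w, hw⟩ : U))))
    have hmem : u * v * u⁻¹ * v⁻¹ ∈ CfsgLib.OddTransitive.RankOne.involutionGroup hR h2 := by
      rcases P.S_cases hR h2 with hab | ⟨-, hcm, -⟩
      · rw [hab u (hPS u hu) v (hPS v hv)]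
        simp
      · have := hcm u⁻¹ (hPS _ (inv_mem hu)) v⁻¹ (hPS _ (inv_mem hv))
        rwa [inv_inv, inv_inv] at this
    have := (hinv' _ hmem).2
    simpa using this
  · obtain ⟨u, hu, rfl⟩ := hSU x hx
    have habU : ∀ x ∈ U, ∀ y ∈ U, x * y = y * x := fun x hx y hy =>
      Subtype.ext (hab _ (hUS x hx) _ (hUS y hy))
    have hcardU : Nat.card U = CfsgLib.Lie.RankOneClass.qq J a :=
      (CfsgLib.Lie.RankOneClass.shape_all _ J (J ⧸ M) a t U rfl hR h2).resolve_right fun e => e.1 habU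
    have hle : CfsgLib.OddTransitive.RankOne.involutionGroup hR h2 ≤ U := fun x hx =>
      ((CfsgLib.OddTransitive.RankOne.mem_involutionGroup hR h2).1 hx).elim (fun e => e ▸ one_mem U)
        (fun e => CfsgLib.Lie.RankOne.J_mem_Q hR e)
    have he := Subgroup.eq_of_le_of_card_ge hle
      (by rw [hcardU, CfsgLib.Lie.RankOneClass.card_involutionGroup hR h2])
    exact (hinv' u (he.ge hu)).2
  · obtain ⟨j', hj', hje⟩ := h.exists_smul S V
    have hja : (⟨j', hj'⟩ : J) • a ≠ a := fun e => hV (by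
      have h1 := (hpt ⟨j', hj'⟩ 1).1 (by rw [e, one_smul])
      rw [Subgroup.coe_one, one_smul, hje] at h1
      exact h1)
    obtain ⟨q, hq, hqe⟩ := exists_smul_eq_ta hR hja
    refine ⟨q, hUS q hq, ?_⟩
    have := (hpt (q * t) ⟨j', hj'⟩).1 (by rw [mul_smul, hqe])
    rwa [Subgroup.coe_mul, mul_smul, htT, hje] at this
  · rw [Subgroup.orderOf_coe]
    exact CfsgLib.Lie.RankOne.D_odd hR hg1.1
  · have := (hfixS 1).1
    rwa [pow_one] at this
  · have := (hfixS 1).2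
    rwa [pow_one] at this
  · intro z hz z' hz' hzz hzz' hz1 hz1'
    obtain ⟨u, rfl, hu⟩ := hinv z hz hzz
    obtain ⟨u', rfl, hu'⟩ := hinv z' hz' hzz'
    have hu1 := ((CfsgLib.OddTransitive.RankOne.mem_involutionGroup hR h2).1 hu).resolve_left
      fun e => hz1 (by rw [e]; rfl)
    have hu1' := ((CfsgLib.OddTransitive.RankOne.mem_involutionGroup hR h2).1 hu').resolve_left
      fun e => hz1' (by rw [e]; rfl)
    obtain ⟨c, ⟨hcK, hce⟩, -⟩ := CfsgLib.Lie.RankOne.exists_unique_K hR hu1 hu1'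
    have hcC : c⁻¹ ∈ C := inv_mem (show c ∈ (C : Set J) from hC.symm ▸ hcK)
    obtain ⟨i, hi⟩ := Submonoid.mem_powers_iff _ _ |>.1 (mem_powers_iff_mem_zpowers.2 (hgen ⟨c⁻¹, hcC⟩))
    have hi' : g ^ i = c⁻¹ := congrArg Subtype.val hi
    refine ⟨i, ?_⟩
    rw [← Subgroup.coe_pow, hi', ← hce]
    simp
  · intro i z hz hzz hz1 hc
    rw [← Subgroup.coe_pow] at hc ⊢
    rcases hz with hz | hz
    · obtain ⟨u, rfl, hu⟩ := hinv z hz hzz
      rw [hone i u (((CfsgLib.OddTransitive.RankOne.mem_involutionGroup hR h2).1 hu).resolve_left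
        fun e => hz1 (by rw [e]; rfl)) (Subtype.ext hc)]
      rfl
    · have htt : (t : K) * t = 1 := by rw [← Subgroup.coe_mul, hR.mul_self]; rfl
      have hti : (t : K)⁻¹ = t := inv_eq_of_mul_eq_one_right htt
      have hzS : (t : K) * z * t ∈ (S : Subgroup K) := by
        have h1 := conj_mem_sylow (g := (t : K)) hz
        rwa [hti, ← htT, ← mul_smul, htt, one_smul] at h1
      have hzz' : (t : K) * z * t * ((t : K) * z * t) = 1 := by
        rw [show (t : K) * z * t * ((t : K) * z * t) = t * z * (t * t) * z * t by group, htt, mul_one,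
          mul_assoc (t : K) z z, hzz, mul_one, htt]
      obtain ⟨u, hue, hu⟩ := hinv _ hzS hzz'
      have hu1 := ((CfsgLib.OddTransitive.RankOne.mem_involutionGroup hR h2).1 hu).resolve_left fun e => hz1 (by
        have h1 : (t : K) * z * t = 1 := by rw [← hue, e]; rfl
        calc z = (t : K) * ((t : K) * z * t) * t := by
              rw [show (t : K) * ((t : K) * z * t) * t = (t * t) * z * (t * t) by group, htt, one_mul, mul_one]
          _ = 1 := by rw [h1, mul_one, htt])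
      have hinvc : t * g ^ i * t = (g ^ i)⁻¹ := CfsgLib.Lie.RankOne.t_conj_inv hR (hgK i)
      have hc' : (g ^ i)⁻¹ * u = u * (g ^ i)⁻¹ := by
        refine Subtype.ext ?_
        rw [← hinvc]
        simp only [Subgroup.coe_mul, hue]
        rw [show (t : K) * ((g ^ i : J) : K) * t * ((t : K) * z * t) = t * (g ^ i : J) * (t * t) * z * t by group,
          htt, mul_one, mul_assoc (t : K) _ z, hc]
        rw [show (t : K) * z * t * ((t : K) * ((g ^ i : J) : K) * t) = t * z * (t * t) * (g ^ i : J) * t by group,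
          htt, mul_one, mul_assoc (t : K) z]
      rw [hone i u hu1 (by rw [eq_comm, ← eq_mul_inv_iff_mul_eq, mul_assoc, ← hc', mul_inv_cancel_left])]
      rfl
  · intro i V hVS hVT hfix
    rw [← Subgroup.coe_pow] at hfix ⊢
    obtain ⟨j', hj', rfl⟩ := h.exists_smul S V
    rw [CfsgLib.Lie.RankOneClass.eq_one_of_fix_three hR (hgK i) (c := (⟨j', hj'⟩ : J) • a) ?_ ?_ ?_]
    · rfl
    · intro e
      exact hVS (by
        have := (hpt ⟨j', hj'⟩ 1).1 (by rw [e, one_smul])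
        rwa [Subgroup.coe_one, one_smul] at this)
    · intro e
      exact hVT (by
        have := (hpt ⟨j', hj'⟩ t).1 e
        rwa [htT] at this)
    · rw [← mul_smul]
      exact (hpt _ _).2 (by rw [Subgroup.coe_mul, mul_smul]; exact hfix)

end SingleData

variable {K : Type u} [Group K] [Finite K]

/-- **The facts on two Sylow subgroups of a TI group.** -/
theorem ti_line (hti : ∀ S T : Sylow 2 K, S ≠ T → (S : Subgroup K) ⊓ (T : Subgroup K) = ⊥)
    (hfour : ∃ S : Sylow 2 K, Four (S : Subgroup K)) (hne : ∃ S T : Sylow 2 K, S ≠ T) :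
    ∃ q, (∃ n, 2 ≤ n ∧ q = 2 ^ n) ∧ ∀ S T : Sylow 2 K, T ≠ S →
      ∃ Om : Subgroup K, Nat.card Om = q ∧ Om ≤ (S : Subgroup K) ∧
        (∀ x ∈ (S : Subgroup K), x * x = 1 ↔ x ∈ Om) ∧
        (∀ x ∈ (S : Subgroup K), ∀ z ∈ Om, x * z = z * x) ∧
        (∀ x ∈ (S : Subgroup K), ∀ y ∈ (S : Subgroup K), x * y * x⁻¹ * y⁻¹ ∈ Om) ∧
        ((∀ x ∈ (S : Subgroup K), ∀ y ∈ (S : Subgroup K), x * y = y * x) → Nat.card (S : Subgroup K) = q) ∧
        (∀ U : Sylow 2 K, U ≠ S → ∃ x ∈ (S : Subgroup K), x • T = U) ∧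
        ∃ g : K, Odd (orderOf g) ∧ g • S = S ∧ g • T = T ∧
          (∀ z ∈ Om, ∀ z' ∈ Om, z ≠ 1 → z' ≠ 1 → ∃ i : ℕ, g ^ i * z * (g ^ i)⁻¹ = z') ∧
          (∀ (i : ℕ) (z : K), z ∈ (S : Subgroup K) ∨ z ∈ (T : Subgroup K) → z * z = 1 → z ≠ 1 →
            g ^ i * z = z * g ^ i → ∀ z' ∈ Om, g ^ i * z' = z' * g ^ i) ∧
          (∀ (i : ℕ) (U : Sylow 2 K), U ≠ S → U ≠ T → g ^ i • U = U → ∀ z' ∈ Om, g ^ i * z' = z' * g ^ i) ∧
          (∀ N : Subgroup K, ∀ _ : N.Normal, Group.IsSolvable (K ⧸ N) → (S : Subgroup K) ≤ N ∧ g ∈ N) := by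
  classical
  haveI : Fact (Nat.Prime 2) := ⟨Nat.prime_two⟩
  have hc := singleCore_of_ti hti hfour hne
  have hD := hc.quotient
  obtain ⟨S₀, T₀, hne₀⟩ := hne
  set q := Nat.card {x : K // x ∈ (S₀ : Subgroup K) ∧ x * x = 1} with hq
  have hbij : ∀ S : Sylow 2 K, Nat.card {x : K // x ∈ (S : Subgroup K) ∧ x * x = 1} =
      Nat.card {x : K ⧸ Cfsg.oddCore K // x ∈ (piS S : Subgroup (K ⧸ Cfsg.oddCore K)) ∧ x * x = 1} := fun S => by
    refine Nat.card_eq_of_bijective (fun x => ⟨piO K x.1, piO_mem x.2.1, by rw [← map_mul, x.2.2, map_one]⟩)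
      ⟨fun x y e => Subtype.ext (piO_inj x.2.1 y.2.1 (congrArg Subtype.val e)), ?_⟩
    rintro ⟨z, hz, hzz⟩
    rw [coe_piS] at hz
    obtain ⟨x, hx, rfl⟩ := hz
    exact ⟨⟨x, hx, eq_one_of_piO (mul_mem hx hx) (by rw [map_mul, hzz])⟩, rfl⟩
  have hqS : ∀ S : Sylow 2 K, Nat.card {x : K // x ∈ (S : Subgroup K) ∧ x * x = 1} = q := fun S => by
    obtain ⟨c, rfl⟩ := MulAction.exists_smul_eq K S₀ S
    refine (Nat.card_congr ?_).symm
    refine (MulAut.conj c).toEquiv.subtypeEquiv fun x => ?_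
    show _ ↔ c * x * c⁻¹ ∈ _ ∧ c * x * c⁻¹ * (c * x * c⁻¹) = 1
    rw [mem_smul_sylow, show c⁻¹ * (c * x * c⁻¹) * c = x by group,
      show c * x * c⁻¹ * (c * x * c⁻¹) = c * (x * x) * c⁻¹ by group, conj_eq_one_iff]
  refine ⟨q, ?_, fun S T hne => ?_⟩
  · obtain ⟨-, ⟨n, hn, e⟩, -⟩ := hD.line (fun e => hne₀ (hc.piS_injective e).symm : piS T₀ ≠ piS S₀)
    exact ⟨n, hn, by rw [hq, hbij, e]⟩
  obtain ⟨hSJ, -, hcent, hcomm, habel, htrans, g₀, hg₀J, hg₀odd, hgS, hgT, hgtr, hgone, hgthree⟩ :=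
    hD.line (fun e => hne (hc.piS_injective e) : piS T ≠ piS S)
  have hxx : ∀ {x : K}, x ∈ (S : Subgroup K) → (x * x = 1 ↔ piO K x * piO K x = 1) := fun {x} hx =>
    ⟨fun e => by rw [← map_mul, e, map_one], fun e => eq_one_of_piO (mul_mem hx hx) (by rw [map_mul, e])⟩
  have hcentK : ∀ x ∈ (S : Subgroup K), x * x = 1 → ∀ s ∈ (S : Subgroup K), s * x = x * s := fun x hx e s hs =>
    piO_inj (mul_mem hs hx) (mul_mem hx hs) (by
      rw [map_mul, map_mul]; exact hcent _ (piO_mem hx) ((hxx hx).1 e) _ (piO_mem hs))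
  let Om : Subgroup K :=
    { carrier := {x | x ∈ (S : Subgroup K) ∧ x * x = 1}
      one_mem' := ⟨one_mem _, one_mul 1⟩
      mul_mem' := fun {x y} hx hy => ⟨mul_mem hx.1 hy.1, by
        rw [show x * y * (x * y) = x * (y * x) * y by group, ← hcentK y hy.1 hy.2 x hx.1,
          show x * (x * y) * y = (x * x) * (y * y) by group, hx.2, hy.2, one_mul]⟩
      inv_mem' := fun {x} hx => ⟨inv_mem hx.1, by rw [← mul_inv_rev, hx.2, inv_one]⟩ }
  -- a residual containing the line group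
  obtain ⟨n₀, hn₀⟩ : ∃ n₀, ∀ n, derivedSeries K n₀ ≤ derivedSeries K n := by
    obtain ⟨n₀, hmin⟩ : ∃ n₀, ∀ n, Nat.card (derivedSeries K n₀) ≤ Nat.card (derivedSeries K n) :=
      ⟨Function.argmin (fun n => Nat.card (derivedSeries K n)), fun n =>
        Function.argmin_le (fun n => Nat.card (derivedSeries K n)) n⟩
    refine ⟨n₀, fun n => ?_⟩
    rcases le_total n n₀ with hle | hle
    · exact derivedSeries_antitone K hle
    · exact (eq_of_le_of_card_ge (derivedSeries_antitone K hle) (hmin n)).ge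
  have hres : ∀ N : Subgroup K, ∀ _ : N.Normal, Group.IsSolvable (K ⧸ N) → derivedSeries K n₀ ≤ N := by
    intro N hN hsol
    obtain ⟨n, hn⟩ := (Group.isSolvable_def _).1 hsol
    refine (hn₀ n).trans fun x hx => (QuotientGroup.eq_one_iff x).1 ?_
    rw [← mem_bot, ← hn]
    exact map_derivedSeries_le_derivedSeries (QuotientGroup.mk' N) n ⟨x, hx, rfl⟩
  set R := derivedSeries K n₀ with hR
  have hJR : ∀ z, z ∈ closure {x | x ∈ (⊤ : Subgroup K).map (piO K) ∧ orderOf x = 2} → z ∈ R.map (piO K) :=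
    fun z hz => by
      rw [hR, map_derivedSeries_eq piO_surjective]
      exact hD.le_derivedSeries n₀ hz
  obtain ⟨g₁, hg₁, hg₁'⟩ := hJR _ hg₀J
  obtain ⟨a, b, hb, hab⟩ := Nat.exists_eq_two_pow_mul_odd (orderOf_pos g₁).ne'
  have hcop : (2 ^ a).Coprime (orderOf g₀) := by
    exact (Nat.coprime_two_left.2 hg₀odd).pow_left a
  obtain ⟨i₀, hi₀⟩ := exists_pow_eq_self_of_coprime hcop
  set g := (g₁ ^ 2 ^ a) ^ i₀ with hg
  have hπg : piO K g = g₀ := by rw [hg, map_pow, map_pow, hg₁', hi₀]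
  have hgodd : Odd (orderOf g) := by
    refine hb.of_dvd_nat (orderOf_dvd_of_pow_eq_one ?_)
    rw [hg, ← pow_mul, ← pow_mul, show 2 ^ a * (i₀ * b) = orderOf g₁ * i₀ by rw [hab]; ring, pow_mul,
      pow_orderOf_eq_one, one_pow]
  have hgfix : ∀ {V : Sylow 2 K}, g₀ • piS V = piS V → g • V = V := fun {V} e =>
    hc.piS_injective (by rw [piS_smul, hπg, e])
  have hcore : ∀ i : ℕ, g₀ ^ i = 1 → ∀ z ∈ Om, g ^ i * z = z * g ^ i := fun i hi z hz =>
    (hc.core_commute S hz.1 ((QuotientGroup.eq_one_iff _).1 (by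
      show piO K (g ^ i) = 1
      rw [map_pow, hπg, hi]))).symm
  refine ⟨Om, ?_, fun x hx => hx.1, fun x hx => ⟨fun e => ⟨hx, e⟩, fun e => e.2⟩,
    fun x hx z hz => hcentK z hz.1 hz.2 x hx, fun x hx y hy => ?_, fun hab => ?_, fun U hU => ?_,
    g, hgodd, hgfix hgS, hgfix hgT, ?_, ?_, ?_, ?_⟩
  · rw [← hqS S]; rfl
  · have hmem : x * y * x⁻¹ * y⁻¹ ∈ (S : Subgroup K) :=
      mul_mem (mul_mem (mul_mem hx hy) (inv_mem hx)) (inv_mem hy)
    refine ⟨hmem, (hxx hmem).2 ?_⟩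
    simp only [map_mul, map_inv]
    exact hcomm _ (piO_mem hx) _ (piO_mem hy)
  · rw [← hqS S]
    refine Nat.card_congr ?_
    refine Equiv.subtypeEquivRight fun x => ⟨fun hx => ⟨hx, (hxx hx).2 (habel ?_ _ (piO_mem hx))⟩, fun hx => hx.1⟩
    intro u hu v hv
    rw [coe_piS] at hu hv
    obtain ⟨u, hu, rfl⟩ := hu
    obtain ⟨v, hv, rfl⟩ := hv
    rw [← map_mul, ← map_mul, hab u hu v hv]
  · obtain ⟨z, hz, he⟩ := htrans (piS U) (fun e => hU (hc.piS_injective e))
    rw [coe_piS] at hz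
    obtain ⟨x, hx, rfl⟩ := hz
    exact ⟨x, hx, hc.piS_injective (by rw [piS_smul, he])⟩
  · intro z hz z' hz' hz1 hz1'
    obtain ⟨i, hi⟩ := hgtr _ (piO_mem hz.1) _ (piO_mem hz'.1) ((hxx hz.1).1 hz.2) ((hxx hz'.1).1 hz'.2)
      (fun e => hz1 (eq_one_of_piO hz.1 e)) (fun e => hz1' (eq_one_of_piO hz'.1 e))
    refine ⟨i, piO_inj ?_ hz'.1 (by rw [map_mul, map_mul, map_inv, map_pow, hπg, hi])⟩
    have hfix : g ^ i • S = S := by
      refine hc.piS_injective ?_
      rw [piS_smul, map_pow, hπg]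
      have key : ∀ j : ℕ, g₀ ^ j • piS S = piS S := fun j => by
        induction j with
        | zero => rw [pow_zero, one_smul]
        | succ j ih => rw [pow_succ, mul_smul, hgS, ih]
      exact key i
    have := conj_mem_sylow (g := g ^ i) hz.1
    rwa [hfix] at this
  · intro i z hz hzz hz1 hcz
    refine hcore i (hgone i (piO K z) (hz.imp piO_mem piO_mem) (by rw [← map_mul, hzz, map_one]) (fun e => hz1 ?_)
      (by rw [← hπg, ← map_pow, ← map_mul, ← map_mul, hcz]))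
    rcases hz with hz | hz <;> exact eq_one_of_piO hz e
  · intro i U hUS hUT hfix
    exact hcore i (hgthree i (piS U) (fun e => hUS (hc.piS_injective e)) (fun e => hUT (hc.piS_injective e))
      (by rw [← hπg, ← map_pow, ← piS_smul, hfix]))
  · intro N hN hsol
    refine ⟨fun s hs => ?_, hres N hN hsol (pow_mem (pow_mem hg₁ _) _)⟩
    obtain ⟨r, hr, hre⟩ := hJR _ (hSJ (piO_mem hs))
    have ho : s⁻¹ * r ∈ Cfsg.oddCore K := (QuotientGroup.eq_one_iff _).1 (by
      show piO K (s⁻¹ * r) = 1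
      rw [map_mul, map_inv, hre, inv_mul_cancel])
    obtain ⟨k, hk⟩ := S.isPGroup' ⟨s, hs⟩
    have hk' : s ^ 2 ^ k = 1 := congrArg Subtype.val hk
    obtain ⟨e, he⟩ := exists_pow_eq_self_of_coprime (x := s⁻¹ * r) (n := 2 ^ k)
      ((Nat.coprime_two_left.2 ((CfsgLib.ZStar.odd_card_oddCore K).of_dvd_nat
        (orderOf_dvd_natCard _ ho))).pow_left k)
    have h1 : (s⁻¹ * r) ^ 2 ^ k = r ^ 2 ^ k := by
      have hcm : Commute s (s⁻¹ * r) := hc.core_commute S hs ho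
      have := hcm.mul_pow (2 ^ k)
      rw [mul_inv_cancel_left, hk', one_mul] at this
      exact this.symm
    rw [show s = r * (s⁻¹ * r)⁻¹ by group]
    refine hres N hN hsol (mul_mem hr (inv_mem ?_))
    rw [← he, h1]
    exact pow_mem (pow_mem hr _) _

end CfsgLib.RankOneInter
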