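import Cfsg.Agent.Lib.Invol.RankOneInter.TIAuto
import Cfsg.Agent.Lib.Bender.Gen.Final
import Cfsg.Agent.Lib.HallGen.Basic

/-!
Owner: helper29. S3310, the trivial intersection theorem: if every involution of a normal subgroup of even order lies
in one Sylow 2-subgroup only, then two Sylow 2-subgroups meet trivially and the involutions of that subgroup generate
a simple rank one group.
-/

set_option autoImplicit false
set_option linter.style.haveILetI false
set_option linter.unusedSectionVars false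

namespace CfsgLib.RankOneInter

open Subgroup MulAction
open CfsgLib.Signalizer (involution_sq involution_ne_one orderOf_eq_two_of orderOf_conj)
open CfsgLib.Bender (benderGen)

universe u

variable {K : Type u} [Group K] [Finite K]

/-- A 2-element normalising a Sylow 2-subgroup lies in it. -/
theorem mem_sylow_of_smul_eq {x : K} {S : Sylow 2 K} {n : ℕ} (hx : x ^ 2 ^ n = 1) (h : x • S = S) :
    x ∈ (S : Subgroup K) := by
  haveI := Fact.mk Nat.prime_two
  obtain ⟨i, -, hi⟩ := (Nat.dvd_prime_pow Nat.prime_two).1 (orderOf_dvd_of_pow_eq_one hx)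
  have hp : IsPGroup 2 (zpowers x) := IsPGroup.of_card (n := i) (by rw [Nat.card_zpowers, hi])
  have h' : x ∈ zpowers x ⊓ normalizer (S : Set K) := ⟨mem_zpowers x, Sylow.smul_eq_iff_mem_normalizer.1 h⟩
  rw [hp.inf_normalizer_sylow S] at h'
  exact h'.2

theorem mem_smul_sylow {g x : K} {S : Sylow 2 K} :
    x ∈ ((g • S : Sylow 2 K) : Subgroup K) ↔ g⁻¹ * x * g ∈ (S : Subgroup K) := by
  rw [Sylow.coe_subgroup_smul, Subgroup.mem_pointwise_smul_iff_inv_smul_mem]
  simp [MulAut.smul_def, mul_assoc]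

/-- The hypotheses of the theorem. -/
structure SingleData (K : Type u) [Group K] [Finite K] (J : Subgroup K) : Prop where
  oddCore_eq : Cfsg.oddCore K = ⊥
  pCore_eq : Cfsg.pCore 2 K = ⊥
  normal : J.Normal
  gen : J = closure {x | x ∈ J ∧ orderOf x = 2}
  exists_invol : ∃ x ∈ J, orderOf x = 2
  single : ∀ x ∈ J, orderOf x = 2 → ∀ S T : Sylow 2 K, x ∈ (S : Subgroup K) → x ∈ (T : Subgroup K) → S = T

theorem singleData_of_normal (hO : Cfsg.oddCore K = ⊥) (hO2 : Cfsg.pCore 2 K = ⊥) (N : Subgroup K) [N.Normal]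
    (hN : Even (Nat.card N))
    (hsingle : ∀ x ∈ N, orderOf x = 2 → ∀ S T : Sylow 2 K, x ∈ (S : Subgroup K) → x ∈ (T : Subgroup K) → S = T) :
    SingleData K (closure {x | x ∈ N ∧ orderOf x = 2}) := by
  set J := closure {x | x ∈ N ∧ orderOf x = 2} with hJ
  have hJN : J ≤ N := (closure_le N).2 fun x hx => hx.1
  refine ⟨hO, hO2, ⟨fun n hn g => ?_⟩, le_antisymm (closure_le _ |>.2 fun x hx =>
    subset_closure ⟨subset_closure hx, hx.2⟩) ((closure_le _).2 fun x hx => hx.1), ?_,
    fun x hx => hsingle x (hJN hx)⟩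
  · have h : J.map (MulAut.conj g).toMonoidHom ≤ J := by
      rw [hJ, MonoidHom.map_closure, closure_le]
      rintro _ ⟨x, hx, rfl⟩
      exact subset_closure ⟨(inferInstance : N.Normal).conj_mem x hx.1 g, (orderOf_conj g x).trans hx.2⟩
    exact h ⟨n, hn, rfl⟩
  · obtain ⟨x, hx, hx2⟩ := CfsgLib.Signalizer.exists_involution_of_even hN
    exact ⟨x, subset_closure ⟨hx, hx2⟩, hx2⟩

namespace SingleData

variable {J : Subgroup K} (h : SingleData K J)
include h

/-- Every Sylow subgroup meets `J` in an involution. -/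
theorem exists_invol_sylow (S : Sylow 2 K) : ∃ x ∈ J, orderOf x = 2 ∧ x ∈ (S : Subgroup K) := by
  haveI := Fact.mk Nat.prime_two
  obtain ⟨x, hx, hx2⟩ := h.exists_invol
  obtain ⟨T, hT⟩ := (IsPGroup.of_card (p := 2) (n := 1) (G := zpowers x)
    (by rw [Nat.card_zpowers, hx2, pow_one])).exists_le_sylow
  obtain ⟨g, rfl⟩ := MulAction.exists_smul_eq K T S
  exact ⟨g * x * g⁻¹, h.normal.conj_mem x hx g, (orderOf_conj g x).trans hx2,
    mem_smul_sylow.2 (by simpa [mul_assoc] using hT (mem_zpowers x))⟩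

theorem mem_of_smul {x : K} (hx2 : orderOf x = 2) {S : Sylow 2 K} (hS : x • S = S) : x ∈ (S : Subgroup K) :=
  mem_sylow_of_smul_eq (n := 1) (by rw [pow_one, ← hx2, pow_orderOf_eq_one]) hS

theorem stronglyEmbedded (S : Sylow 2 K) :
    Cfsg.IsStronglyEmbedded ((normalizer (S : Set K)).subgroupOf J) := by
  haveI := Fact.mk Nat.prime_two
  obtain ⟨s, hsJ, hs2, hsS⟩ := h.exists_invol_sylow S
  refine ⟨fun htop => ?_, ?_, fun g hg => ?_⟩
  · have hle : J ≤ (S : Subgroup K) := by
      rw [h.gen, closure_le]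
      exact fun x hx => h.mem_of_smul hx.2 (Sylow.smul_eq_iff_mem_normalizer.2 (subgroupOf_eq_top.1 htop hx.1))
    have hJ2 : J ≤ Cfsg.pCore 2 K := le_sSup ⟨h.normal, S.isPGroup'.to_le hle⟩
    rw [h.pCore_eq] at hJ2
    exact involution_ne_one hs2 (mem_bot.1 (hJ2 hsJ))
  · have h1 : orderOf (⟨s, hsJ⟩ : J) = 2 := by rw [← Subgroup.orderOf_coe]; exact hs2
    rw [even_iff_two_dvd]
    refine dvd_trans (dvd_of_eq h1.symm) (Subgroup.orderOf_dvd_natCard _ ?_)
    exact mem_subgroupOf.2 (le_normalizer hsS)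
  · rw [← Nat.not_even_iff_odd]
    intro hev
    obtain ⟨x, ⟨hx1, y, hy, hyx⟩, hx2⟩ := CfsgLib.Signalizer.exists_involution_of_even hev
    rw [← Subgroup.orderOf_coe] at hx2
    have hxS := h.mem_of_smul hx2 (Sylow.smul_eq_iff_mem_normalizer.2 (mem_subgroupOf.1 hx1))
    have hxg : (x : K) • ((g : K) • S) = (g : K) • S := by
      have he : (x : K) = (g : K) * (y : K) * (g : K)⁻¹ := congrArg Subtype.val hyx.symm
      rw [he, mul_smul, mul_smul, inv_smul_smul, Sylow.smul_eq_iff_mem_normalizer.2 (mem_subgroupOf.1 hy)]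
    exact hg (mem_subgroupOf.2 (Sylow.smul_eq_iff_mem_normalizer.1
      (h.single _ x.2 hx2 _ _ (h.mem_of_smul hx2 hxg) hxS)))

theorem oddCore_bot : Cfsg.oddCore J = ⊥ := by
  haveI : Fact (Nat.Prime 2) := ⟨Nat.prime_two⟩
  haveI := h.normal
  haveI : (Cfsg.oddCore J).Characteristic := CfsgLib.Core.characteristic_pPrimeCore 2 J
  have h1 : (Cfsg.oddCore J).map J.subtype ≤ Cfsg.oddCore K := CfsgLib.ZStar.le_oddCore inferInstance
    ((CfsgLib.ZStar.odd_card_oddCore J).of_dvd_nat (Subgroup.card_map_dvd _ _))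
  rw [h.oddCore_eq, le_bot_iff, map_eq_bot_iff_of_injective _ J.subtype_injective] at h1
  exact h1

theorem not_rankOne : ¬ CfsgLib.Bender.RankOne J := by
  haveI : Fact (Nat.Prime 2) := ⟨Nat.prime_two⟩
  intro hr
  -- every involution of `J` is central in `J`
  have hcent : ∀ {u : J}, orderOf u = 2 → ∀ g : J, u * g = g * u := fun {u} hu g => by
    obtain ⟨P, hP⟩ := (IsPGroup.of_card (p := 2) (n := 1) (G := zpowers u)
      (by rw [Nat.card_zpowers, hu, pow_one])).exists_le_sylow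
    have h1 := CfsgLib.ZStar.mem_oddCore_of_unique P hu (hP (mem_zpowers u))
      (fun x hx hx2 => hr.unique P.isPGroup' hx (hP (mem_zpowers u)) hx2 hu) g
    rw [h.oddCore_bot, mem_bot, mul_inv_eq_one, mul_inv_eq_iff_eq_mul] at h1
    exact h1
  obtain ⟨z, hzJ, hz2⟩ := h.exists_invol
  have hz2' : orderOf (⟨z, hzJ⟩ : J) = 2 := by rw [← Subgroup.orderOf_coe]; exact hz2
  have hle : J ≤ zpowers z := by
    refine h.gen.trans_le ((closure_le _).2 ?_)
    rintro x ⟨hxJ, hx2⟩
    have he := hr ⟨x, hxJ⟩ ⟨z, hzJ⟩ (by rw [← Subgroup.orderOf_coe]; exact hx2) hz2' (hcent (by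
      rw [← Subgroup.orderOf_coe]; exact hx2) _)
    rw [show x = z from congrArg Subtype.val he]
    exact mem_zpowers z
  have hp : IsPGroup 2 J := (IsPGroup.of_card (p := 2) (n := 1) (G := zpowers z)
    (by rw [Nat.card_zpowers, hz2, pow_one])).to_le hle
  have h2 : J ≤ Cfsg.pCore 2 K := le_sSup ⟨h.normal, hp⟩
  rw [h.pCore_eq] at h2
  exact involution_ne_one hz2 (mem_bot.1 (h2 hzJ))

theorem isSimple : IsSimpleGroup J := by
  haveI := Fact.mk Nat.prime_two
  obtain ⟨s, hs, hs2⟩ := h.exists_invol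
  haveI : Nontrivial J := ⟨⟨⟨s, hs⟩, 1, fun e => involution_ne_one hs2 (congrArg Subtype.val e)⟩⟩
  refine ⟨fun N hN => or_iff_not_imp_left.2 fun hN1 => ?_⟩
  have heven : Even (Nat.card N) := by
    rw [← Nat.not_odd_iff_even]
    exact fun hodd => hN1 (le_bot_iff.1 (h.oddCore_bot ▸ CfsgLib.ZStar.le_oddCore hN hodd))
  obtain ⟨r, hr, hr2⟩ := CfsgLib.Signalizer.exists_involution_of_even heven
  have hle : J ≤ N.map J.subtype := by
    refine h.gen.trans_le ((closure_le _).2 fun x hx => ?_)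
    obtain ⟨g, hg⟩ := isConj_iff.1 (CfsgLib.TwoGroups.SE.isConj_involutions
      (h.stronglyEmbedded (default : Sylow 2 K)) hr2 (b := (⟨x, hx.1⟩ : J))
      (by rw [← Subgroup.orderOf_coe]; exact hx.2))
    exact ⟨_, hN.conj_mem r hr g, congrArg Subtype.val hg⟩
  refine eq_top_iff.2 fun x _ => ?_
  obtain ⟨y, hy, he⟩ := hle x.2
  rwa [show x = y from Subtype.ext he.symm]

theorem family : CfsgLib.Bender.RankOneFamily J := by
  haveI := h.isSimple
  have hSE := h.stronglyEmbedded (default : Sylow 2 K)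
  exact CfsgLib.Bender.family_of_simple benderGen hSE
    (CfsgLib.Bender.four_of_not_rankOne hSE h.not_rankOne)

/-- `J` is transitive on the Sylow subgroups. -/
theorem exists_smul (S T : Sylow 2 K) : ∃ j ∈ J, j • S = T := by
  obtain ⟨x, hx, hx2, hxS⟩ := h.exists_invol_sylow S
  obtain ⟨y, hy, hy2, hyT⟩ := h.exists_invol_sylow T
  obtain ⟨⟨g, hg⟩, hgx⟩ := isConj_iff.1 (CfsgLib.TwoGroups.SE.isConj_involutions (h.stronglyEmbedded S)
    (a := (⟨x, hx⟩ : J)) (b := (⟨y, hy⟩ : J)) (by rw [← Subgroup.orderOf_coe]; exact hx2)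
    (by rw [← Subgroup.orderOf_coe]; exact hy2))
  refine ⟨g, hg, h.single y hy hy2 _ _ (mem_smul_sylow.2 ?_) hyT⟩
  rw [← show g * x * g⁻¹ = y from congrArg Subtype.val hgx]
  simpa [mul_assoc] using hxS

/-- **Two Sylow 2-subgroups meet trivially.** -/
theorem inf_eq_bot {S T : Sylow 2 K} (hne : S ≠ T) : (S : Subgroup K) ⊓ (T : Subgroup K) = ⊥ := by
  classical
  haveI : Fact (Nat.Prime 2) := ⟨Nat.prime_two⟩
  haveI := h.normal
  haveI := h.isSimple
  set M := (normalizer (S : Set K)).subgroupOf J with hMdef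
  have hSE := h.stronglyEmbedded S
  have hfour := CfsgLib.Bender.four_of_not_rankOne hSE h.not_rankOne
  have hmemM : ∀ x : J, x ∈ M ↔ (x : K) • S = S := fun x =>
    mem_subgroupOf.trans Sylow.smul_eq_iff_mem_normalizer.symm
  have hcore : M.normalCore = ⊥ :=
    (IsSimpleGroup.eq_bot_or_eq_top_of_normal _ inferInstance).resolve_right
      fun e => hSE.1 (top_le_iff.1 (e ▸ M.normalCore_le))
  obtain ⟨hBS, hsol⟩ := benderGen J M hSE hfour
  obtain ⟨U, hUa, hUn, htr, hfree, -, -⟩ := hBS.exists_regular (CfsgLib.Bender.smallerOK _)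
    (CfsgLib.Bender.faithful_of_core hcore) _ hsol
  rw [CfsgLib.Bender.stab_base] at hUa hUn
  have hneM : ∀ g : J, g ∉ M → (g : J ⧸ M) ≠ ((1 : J) : J ⧸ M) := fun g hg e =>
    hg (by simpa using QuotientGroup.eq.1 e)
  obtain ⟨t, hR, hF, -, h2⟩ := CfsgLib.Lie.RankOneClass.exists_setup M hSE U hUa
    (normal_subgroupOf_of_le_normalizer hUn) (by
      intro g₁ g₂ h₁ h₂
      obtain ⟨u, hu, he⟩ := htr _ _ (hneM g₁ h₁) (hneM g₂ h₂)
      rw [MulAction.Quotient.smul_coe, smul_eq_mul] at he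
      exact ⟨u, hu, QuotientGroup.eq.1 he.symm⟩) (by
      intro g hg u hu he
      refine hfree _ (hneM g hg) u hu ?_
      rw [MulAction.Quotient.smul_coe, smul_eq_mul]
      exact (QuotientGroup.eq.2 he).symm)
  haveI := hF
  set a : J ⧸ M := ((1 : J) : J ⧸ M) with ha
  have hmk : ∀ g : J, g • a = (g : J ⧸ M) := fun g => by
    rw [ha, MulAction.Quotient.smul_coe, smul_eq_mul, mul_one]
  have hpt : ∀ g g' : J, g • a = g' • a → (g : K) • S = (g' : K) • S := fun g g' e => by
    rw [hmk, hmk] at e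
    have h1 := (hmemM _).1 (QuotientGroup.eq.1 e)
    rw [Subgroup.coe_mul, Subgroup.coe_inv, mul_smul] at h1
    exact (inv_smul_eq_iff.1 h1).symm
  have ht : ((t : K) • S) ≠ S := fun e => hR.not_mem (by
    show t • a = a
    rw [hmk, ha, QuotientGroup.eq, mul_one, inv_mem_iff]
    exact (hmemM t).2 e)
  by_contra hbot
  obtain ⟨e, he, hed⟩ := CfsgLib.Signalizer.exists_involution_of_even
    (H := (S : Subgroup K) ⊓ (T : Subgroup K)) (by
      obtain ⟨i, hi⟩ := (S.isPGroup'.to_le inf_le_left : IsPGroup 2 ((S : Subgroup K) ⊓ T : Subgroup K)).exists_card_eq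
      rw [hi]
      rcases i with _ | i
      · exact absurd (Subgroup.card_eq_one.1 (by rw [hi, pow_zero])) hbot
      · exact Nat.even_pow.2 ⟨even_two, i.succ_ne_zero⟩)
  -- move the pair to `S, t S`
  obtain ⟨d, hd2, hdS, hdT⟩ : ∃ d : K, orderOf d = 2 ∧ d ∈ (S : Subgroup K) ∧
      d ∈ (((t : K) • S : Sylow 2 K) : Subgroup K) := by
    obtain ⟨j, hj, rfl⟩ := h.exists_smul S T
    have hja : (⟨j, hj⟩ : J) • a ≠ a := fun e' => hne (by
      have := hpt ⟨j, hj⟩ 1 (by rw [e', one_smul])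
      rw [Subgroup.coe_one, one_smul] at this
      exact this.symm)
    obtain ⟨g, hga, hgj⟩ := CfsgLib.Lie.RankOne.pairs hR (b := a) (c := (⟨j, hj⟩ : J) • a) hja.symm
      (CfsgLib.Lie.RankOne.t_smul_ne hR).symm
    have h1 : (g : K) • S = S := by
      have := hpt g 1 (by rw [one_smul]; exact hga)
      rwa [Subgroup.coe_one, one_smul] at this
    have h2 : (g : K) • j • S = (t : K) • S := by
      have := hpt (g * ⟨j, hj⟩) t (by rw [mul_smul, hgj])
      rwa [Subgroup.coe_mul, mul_smul] at this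
    refine ⟨(g : K) * e * (g : K)⁻¹, (orderOf_conj _ _).trans hed, ?_, ?_⟩
    · have : (g : K) * e * (g : K)⁻¹ ∈ (((g : K) • S : Sylow 2 K) : Subgroup K) :=
        mem_smul_sylow.2 (by
          have h3 : e ∈ (S : Subgroup K) := he.1
          simpa [mul_assoc] using h3)
      rwa [h1] at this
    · have : (g : K) * e * (g : K)⁻¹ ∈ (((g : K) • j • S : Sylow 2 K) : Subgroup K) :=
        mem_smul_sylow.2 (by
          have h3 : e ∈ ((j • S : Sylow 2 K) : Subgroup K) := he.2
          simpa [mul_assoc] using h3)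
      rwa [h2] at this
  have hdd : d * d = 1 := involution_sq hd2
  have hdi : d⁻¹ = d := inv_eq_of_mul_eq_one_right hdd
  have hdSS : d • S = S := Sylow.smul_eq_iff_mem_normalizer.2 (le_normalizer hdS)
  have hdTT : d • (t : K) • S = (t : K) • S := Sylow.smul_eq_iff_mem_normalizer.2 (le_normalizer hdT)
  -- conjugation by `d`
  let φ : J →* J :=
    { toFun := fun x => ⟨d * (x : K) * d⁻¹, h.normal.conj_mem _ x.2 d⟩
      map_one' := Subtype.ext (by simp)
      map_mul' := fun x y => Subtype.ext (by simp [mul_assoc]) }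
  have hφφ : ∀ x, φ (φ x) = x := fun x => Subtype.ext (by
    show d * (d * (x : K) * d⁻¹) * d⁻¹ = x
    rw [hdi, show d * (d * (x : K) * d) * d = (d * d) * x * (d * d) by group, hdd, one_mul, mul_one])
  have hφS : ∀ x : J, (φ x : K) • S = d • (x : K) • S := fun x => by
    show (d * (x : K) * d⁻¹) • S = _
    rw [hdi, mul_smul, mul_smul, hdSS]
  let δ : J ⧸ M → J ⧸ M := Quotient.map' φ fun x y e => by
    rw [QuotientGroup.leftRel_apply] at e ⊢
    rw [← map_inv, ← map_mul, hmemM, hφS, (hmemM _).1 e, hdSS]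
  have hδ : ∀ x : J, δ (x : J ⧸ M) = (φ x : J ⧸ M) := fun x => rfl
  have hfixall : ∀ g : J, φ g = g := by
    refine TIAuto.auto_eq_one hR h2 φ hφφ δ ?_ ?_ ?_ ?_
    · intro g c
      obtain ⟨c, rfl⟩ := QuotientGroup.mk_surjective c
      rw [MulAction.Quotient.smul_coe, smul_eq_mul, hδ, hδ, map_mul, MulAction.Quotient.smul_coe, smul_eq_mul]
    · rw [ha, hδ, map_one]
    · rw [hmk, hδ, QuotientGroup.eq, hmemM, Subgroup.coe_mul, Subgroup.coe_inv, mul_smul, inv_smul_eq_iff]
      show (t : K) • S = (φ t : K) • S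
      rw [hφS, hdTT]
    · intro x hx
      obtain ⟨hxa, hxt⟩ := Subgroup.mem_inf.1 hx
      have hxS : (x : K) • S = S := by
        have := hpt x 1 (by rw [one_smul]; exact hxa)
        rwa [Subgroup.coe_one, one_smul] at this
      have hxT : (x : K) • (t : K) • S = (t : K) • S := by
        have := hpt (x * t) t (by rw [mul_smul]; exact hxt)
        rwa [Subgroup.coe_mul, mul_smul] at this
      set c := d * (x : K) * d⁻¹ * (x : K)⁻¹ with hc
      have hcJ : c ∈ J := mul_mem (h.normal.conj_mem _ x.2 d) (inv_mem x.2)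
      have hcU : ∀ U : Sylow 2 K, (x : K) • U = U → d ∈ (U : Subgroup K) → c ∈ (U : Subgroup K) := by
        intro U hxU hdU
        have h1 : (x : K) * d * (x : K)⁻¹ ∈ (U : Subgroup K) := by
          have : (x : K) * d * (x : K)⁻¹ ∈ (((x : K) • U : Sylow 2 K) : Subgroup K) :=
            mem_smul_sylow.2 (by simpa [mul_assoc] using hdU)
          rwa [hxU] at this
        rw [hc, hdi, show d * (x : K) * d * (x : K)⁻¹ = d * ((x : K) * d * (x : K)⁻¹) by group]
        exact mul_mem hdU h1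
      have hc1 : c = 1 := by
        by_contra hc1
        obtain ⟨y, hy, hy2⟩ := CfsgLib.Signalizer.exists_involution_of_even (H := zpowers c) (by
          obtain ⟨i, hi⟩ := (S.isPGroup'.to_le (zpowers_le.2 (hcU S hxS hdS)) : IsPGroup 2 (zpowers c)).exists_card_eq
          rw [hi]
          rcases i with _ | i
          · exact absurd (zpowers_eq_bot.1 (Subgroup.card_eq_one.1 (by rw [hi, pow_zero]))) hc1
          · exact Nat.even_pow.2 ⟨even_two, i.succ_ne_zero⟩)
        exact ht (h.single y (zpowers_le.2 hcJ hy) hy2 _ _ (zpowers_le.2 (hcU _ hxT hdT) hy)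
          (zpowers_le.2 (hcU S hxS hdS) hy))
      exact Subtype.ext (mul_inv_eq_one.1 hc1)
  -- `d` lies in every Sylow subgroup
  have hall : ∀ U : Sylow 2 K, d ∈ (U : Subgroup K) := fun U => by
    obtain ⟨y, hy, hy2, hyU⟩ := h.exists_invol_sylow U
    refine h.mem_of_smul hd2 (h.single y hy hy2 _ _ (mem_smul_sylow.2 ?_) hyU)
    have h1 : d * y * d⁻¹ = y := congrArg Subtype.val (hfixall ⟨y, hy⟩)
    rw [hdi] at h1 ⊢
    rwa [h1]
  have := CfsgLib.HallGen.mem_pCore_of_forall_sylow 2 d hall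
  rw [h.pCore_eq, mem_bot] at this
  exact involution_ne_one hd2 this

end SingleData

/-- **The TI theorem.** -/
theorem sylow_ti_of_single (hO : Cfsg.oddCore K = ⊥) (hO2 : Cfsg.pCore 2 K = ⊥) (N : Subgroup K) [N.Normal]
    (hN : Even (Nat.card N))
    (hsingle : ∀ x ∈ N, orderOf x = 2 → ∀ S T : Sylow 2 K, x ∈ (S : Subgroup K) → x ∈ (T : Subgroup K) → S = T) :
    (∀ S T : Sylow 2 K, S ≠ T → (S : Subgroup K) ⊓ (T : Subgroup K) = ⊥) ∧
      ∃ J : Subgroup K, J.Normal ∧ J ≤ N ∧ IsSimpleGroup J ∧ CfsgLib.Bender.RankOneFamily J ∧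
        ∀ S T : Sylow 2 K, ∃ j ∈ J, j • S = T := by
  have h := singleData_of_normal hO hO2 N hN hsingle
  exact ⟨fun S T hne => h.inf_eq_bot hne, _, h.normal, (closure_le N).2 fun x hx => hx.1, h.isSimple, h.family,
    h.exists_smul⟩

end CfsgLib.RankOneInter
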